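import Cfsg.Agent.H439.Der.ReduceThree

/-!
# S3502: a third alternative for the rows (helper149)

* `Cos3 T` : every outer coset of `Inn T` contains elements of three different orders
* `RowC T` : `Cos3 T`, and `Fin3 T R` for the proper non-maximal subgroups `R`
* `Sit3.final_c` : the conclusion of S3502 from `RowC`
* `AT T x` : the `Aut T`-class of `x` is one `T`-class; then `OutBadN T R` if `x` has no conjugate in `R`
* `Cos3.of_at` : `Cos3` from two self-contained primes
-/

set_option autoImplicit false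

namespace Cfsg.Agent.H149.Der

open Subgroup MulAction Cfsg.Agent.H938.Sax Cfsg.Agent.H439.Der

/-- every outer coset of `Inn T` contains elements of three different orders -/
def Cos3 (T : Type*) [Group T] : Prop :=
  ∀ φ : MulAut T, (∀ t : T, φ ≠ MulAut.conj t) → ∃ s t u : T,
    orderOf (MulAut.conj s * φ) ≠ orderOf (MulAut.conj t * φ) ∧
    orderOf (MulAut.conj s * φ) ≠ orderOf (MulAut.conj u * φ) ∧
    orderOf (MulAut.conj t * φ) ≠ orderOf (MulAut.conj u * φ)

/-- the row with `Cos3` -/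
def RowC (T : Type*) [Group T] : Prop :=
  Cos3 T ∧ ∀ R : Subgroup T, R ≠ ⊤ → ¬ IsCoatom R → Fin3 T R

theorem Cos3.congr {T S : Type*} [Group T] [Group S] (e : T ≃* S) (h : Cos3 T) : Cos3 S := by
  intro φ hφ
  obtain ⟨s, t, u, h1, h2, h3⟩ := h ((MulAut.congr e).symm φ) (fun t h2 => hφ (e t) (by
      rw [MulEquiv.symm_apply_eq] at h2
      rw [h2]
      ext s
      simp [MulAut.congr]))
  have key : ∀ t : T, orderOf (MulAut.conj (e t) * φ) = orderOf (MulAut.conj t * (MulAut.congr e).symm φ) := by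
    intro t
    have h2 : MulAut.conj (e t) = MulAut.congr e (MulAut.conj t) := by
      ext s
      simp [MulAut.congr]
    have h3 : MulAut.conj t * (MulAut.congr e).symm φ = (MulAut.congr e).symm (MulAut.conj (e t) * φ) := by
      rw [map_mul, h2, MulEquiv.symm_apply_apply]
    rw [h3]
    exact (orderOf_injective (MulAut.congr e).symm.toMonoidHom (MulAut.congr e).symm.injective _).symm
  refine ⟨e s, e t, e u, ?_, ?_, ?_⟩
  · rwa [key, key]
  · rwa [key, key]
  · rwa [key, key]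

theorem RowC.congr {T S : Type*} [Group T] [Group S] (e : T ≃* S) (h : RowC T) : RowC S :=
  ⟨h.1.congr e, fun R hR hR' => (h.2 _ (comap_ne_top e hR) (not_isCoatom_comap e hR')).congr e⟩

section sit

variable {G : Type*} [Group G] [Finite G] {Ω : Type*} [Finite Ω] [MulAction G Ω] {T : Subgroup G}

/-- `T` intransitive -/
theorem case_int_c (h : Sit3 G Ω T) {a : Ω} (hK : T ⊔ stabilizer G a ≠ ⊤) (hr : Cos3 T) :
    3 ≤ Nat.card {c : ConjClasses G // ∃ g : G, ConjClasses.mk g = c ∧ ∀ ω : Ω, g • ω ≠ ω} := by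
  have hT := h.normal
  have hs := h.simple
  have htr := h.trans
  obtain ⟨z, hz⟩ := Sit3.exists_not_conj hK
  have hzT : z ∉ T := fun h1 => hz 1 (by simpa using (mem_sup_left h1 : z ∈ T ⊔ stabilizer G a))
  have hder : ∀ z : G, (∀ g : G, g * z * g⁻¹ ∉ T ⊔ stabilizer G a) → ∀ b : Ω, z • b ≠ b := by
    intro z hz b hb
    obtain ⟨g, rfl⟩ := MulAction.exists_smul_eq G a b
    apply hz g⁻¹
    apply mem_sup_right
    rw [mem_stabilizer_iff, mul_smul, mul_smul, inv_inv, hb, inv_smul_smul]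
  have hinj : Function.Injective (MulAut.conjNormal : G →* MulAut T) := by
    rw [injective_iff_map_eq_one]
    intro g hg
    have h1 : g ∈ centralizer (T : Set G) := by
      rw [Subgroup.mem_centralizer_iff]
      intro x hx
      have h2 : (MulAut.conjNormal g : MulAut T) ⟨x, hx⟩ = ⟨x, hx⟩ := by rw [hg]; rfl
      have h3 : g * x * g⁻¹ = x := by
        have := congrArg Subtype.val h2
        rwa [MulAut.conjNormal_apply] at this
      exact (mul_inv_eq_iff_eq_mul.1 h3).symm
    rwa [h.cent, Subgroup.mem_bot] at h1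
  have hconj : ∀ t : T, (MulAut.conjNormal (t : G) : MulAut T) = MulAut.conj t := by
    intro t
    ext s
    simp
  obtain ⟨s, t, u, h1, h2, h3⟩ := hr (MulAut.conjNormal z) (fun t h2 => hzT (by
    rw [← hconj] at h2
    rw [hinj h2]
    exact t.2))
  have ho : ∀ t : T, orderOf (MulAut.conj t * MulAut.conjNormal z) = orderOf ((t : G) * z) := by
    intro t
    rw [← hconj, ← map_mul, orderOf_injective _ hinj]
  rw [ho, ho] at h1 h2 h3
  have htz : ∀ t : T, ∀ g : G, g * ((t : G) * z) * g⁻¹ ∉ T ⊔ stabilizer G a := by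
    intro t g hg
    apply hz g
    have h2 : g * z * g⁻¹ = (g * t * g⁻¹)⁻¹ * (g * (t * z) * g⁻¹) := by group
    rw [h2]
    exact mul_mem (inv_mem (mem_sup_left (hT.conj_mem t t.2 g))) hg
  have hne : ∀ x y : G, orderOf x ≠ orderOf y → ∀ g : G, g * x * g⁻¹ ≠ y := fun x y hxy g hg => hxy (by
    rw [← hg]
    exact ((MulAut.conj g).orderOf_eq x).symm)
  exact three_le (x := (s : G) * z) (y := (t : G) * z) (z := (u : G) * z) (hder _ (htz s)) (hder _ (htz t))
    (hder _ (htz u)) (hne _ _ h1) (hne _ _ h2) (hne _ _ h3)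

/-- **The conclusion of S3502 from `RowC`.** -/
theorem final_c (h : Sit3 G Ω T) (hr : RowC T) :
    3 ≤ Nat.card {c : ConjClasses G // ∃ g : G, ConjClasses.mk g = c ∧ ∀ ω : Ω, g • ω ≠ ω} := by
  have hT := h.normal
  have hne : Nonempty Ω := by
    by_contra hn
    rw [not_nonempty_iff] at hn
    have := h.two
    rw [Nat.card_of_isEmpty] at this
    omega
  obtain ⟨a⟩ := hne
  by_cases hK : T ⊔ stabilizer G a = ⊤
  · by_cases hG : T = ⊤
    · have hc := h.not_isCoatom_stabT (a := a) hG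
      rcases hr.2 _ (h.stabT_ne_top a) hc with h1 | ⟨h1, -, -⟩
      · exact h.case_top hG h1.threeT
      · exact h.case_top hG h1
    · obtain ⟨M, hM1, hM2, hM3⟩ := h.exists_N hK
      have hc : ¬ IsCoatom (stabT T a) := fun hc => hM3.ne (hc.2 _ hM2)
      apply h.case_trans hK hG
      rcases hr.2 _ (h.stabT_ne_top a) hc with h1 | ⟨-, h1⟩
      · exact Or.inl h1
      · exact Or.inr h1
  · exact case_int_c h hK hr.1

end sit

section at_

variable {T : Type*} [Group T]

/-- the `Aut T`-class of `x` is one `T`-class -/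
def AT (T : Type*) [Group T] (x : T) : Prop := ∀ φ : MulAut T, ∃ t : T, t * φ x * t⁻¹ = x

/-- an element without conjugates in `R` whose `Aut T`-class is one `T`-class: outer automorphisms leaving `R` invariant have,
up to `R`, a second fixed coset -/
theorem OutBadN.of_at [Finite T] {R : Subgroup T} {x : T} (h : AT T x) (hx : ∀ g : T, g * x * g⁻¹ ∉ R) : OutBadN T R := by
  intro φ _ hR _
  by_contra hcon
  push Not at hcon
  -- `hcon : ∀ r ∈ R, ∀ t ∉ R, t⁻¹ * (r * φ t * r⁻¹) ∉ R`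
  obtain ⟨s, hs⟩ := h φ
  have hφR : ∀ r ∈ R, φ r ∈ R := fun r hr => by
    rw [← hR]
    exact ⟨r, hr, rfl⟩
  -- the map `t R ↦ s φ(t) R` has at least one fixed coset
  -- the elements of the coset `T φ` with a fixed coset: `g` such that `t⁻¹ g φ(t) ∈ R` for some `t`
  -- for each such `g` the coset `t R` is unique
  have huniq : ∀ g t u : T, t⁻¹ * (g * φ t) ∈ R → u⁻¹ * (g * φ u) ∈ R → t⁻¹ * u ∈ R := by
    intro g t u ht hu
    by_contra h1
    refine hcon _ ht (t⁻¹ * u) h1 ?_
    have h2 : (t⁻¹ * u)⁻¹ * (t⁻¹ * (g * φ t) * φ (t⁻¹ * u) * (t⁻¹ * (g * φ t))⁻¹) =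
        u⁻¹ * (g * φ u) * (t⁻¹ * (g * φ t))⁻¹ := by
      rw [map_mul, map_inv]
      group
    rw [h2]
    exact mul_mem hu (inv_mem ht)
  -- every `g` has a fixed coset, by counting
  have hall : ∀ g : T, ∃ t : T, t⁻¹ * (g * φ t) ∈ R := by
    classical
    have : Fintype T := Fintype.ofFinite T
    -- the map `(t R, r) ↦ t r φ(t)⁻¹`
    let f : (T ⧸ R) × R → T := fun p => p.1.out * (p.2 : T) * (φ p.1.out)⁻¹
    have hf : Function.Injective f := by
      rintro ⟨c, r⟩ ⟨d, r'⟩ hcd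
      have h1 : (c.out)⁻¹ * (f (c, r) * φ c.out) ∈ R := by
        have : (c.out)⁻¹ * (f (c, r) * φ c.out) = r := by
          show (c.out)⁻¹ * (c.out * (r : T) * (φ c.out)⁻¹ * φ c.out) = r
          group
        rw [this]
        exact r.2
      have h2 : (d.out)⁻¹ * (f (c, r) * φ d.out) ∈ R := by
        have : (d.out)⁻¹ * (f (c, r) * φ d.out) = r' := by
          rw [hcd]
          show (d.out)⁻¹ * (d.out * (r' : T) * (φ d.out)⁻¹ * φ d.out) = r'
          group
        rw [this]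
        exact r'.2
      have h3 := huniq _ _ _ h1 h2
      have h4 : c = d := by
        rw [← QuotientGroup.out_eq' c, ← QuotientGroup.out_eq' d, QuotientGroup.eq]
        exact h3
      subst h4
      have h5 : c.out * (r : T) * (φ c.out)⁻¹ = c.out * (r' : T) * (φ c.out)⁻¹ := hcd
      rw [mul_left_inj, mul_right_inj] at h5
      exact Prod.ext rfl (Subtype.ext h5)
    have hcard : Nat.card ((T ⧸ R) × R) = Nat.card T := by
      rw [Nat.card_prod]
      exact (Subgroup.card_eq_card_quotient_mul_card_subgroup R).symm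
    have hsurj : Function.Surjective f := by
      have : Finite ((T ⧸ R) × R) := inferInstance
      exact ((Nat.bijective_iff_injective_and_card f).2 ⟨hf, hcard⟩).2
    intro g
    obtain ⟨⟨c, r⟩, hcr⟩ := hsurj g
    refine ⟨c.out, ?_⟩
    rw [← hcr]
    have : (c.out)⁻¹ * (c.out * (r : T) * (φ c.out)⁻¹ * φ c.out) = r := by group
    show (c.out)⁻¹ * (c.out * (r : T) * (φ c.out)⁻¹ * φ c.out) ∈ R
    rw [this]
    exact r.2
  obtain ⟨t, ht⟩ := hall s
  -- `x t R` is fixed, too
  have h1 : (x * t)⁻¹ * (s * φ (x * t)) ∈ R := by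
    have h2 : (x * t)⁻¹ * (s * φ (x * t)) = t⁻¹ * (x⁻¹ * (s * φ x * s⁻¹)) * (s * φ t) := by
      rw [map_mul]
      group
    rw [h2, hs, inv_mul_cancel, mul_one]
    exact ht
  have h2 := huniq s t (x * t) ht h1
  apply hx t⁻¹
  rw [inv_inv]
  have h3 : t⁻¹ * (x * t) = t⁻¹ * x * t := by group
  rwa [h3] at h2

theorem mul_conj (ψ : MulAut T) (w : T) : ψ * MulAut.conj w = MulAut.conj (ψ w) * ψ := by
  ext y
  simp only [MulAut.mul_apply, MulAut.conj_apply, map_mul, map_inv]

theorem AT.exists_comm {x : T} (h : AT T x) (φ : MulAut T) : ∃ t : T, Commute (MulAut.conj t * φ) (MulAut.conj x) := by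
  obtain ⟨t, ht⟩ := h φ
  refine ⟨t, ?_⟩
  have h1 : (MulAut.conj t * φ) x = x := ht
  have h2 := mul_conj (MulAut.conj t * φ) x
  rw [h1] at h2
  exact h2

/-- every coset of `Inn T` contains two elements of orders `a` and `a r`, `r ∤ a` -/
theorem AT.orders [Finite T] {x : T} (h : AT T x) {r : ℕ} (hr : r.Prime) (hx : orderOf x = r)
    (hinj : Function.Injective (MulAut.conj : T →* MulAut T)) (hout : ¬ r ∣ Nat.card (Cfsg.Out T)) (φ : MulAut T) :
    ∃ s t : T, ¬ r ∣ orderOf (MulAut.conj s * φ) ∧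
      orderOf (MulAut.conj t * φ) = r * orderOf (MulAut.conj s * φ) := by
  have hfin : Finite (MulAut T) := Finite.of_injective (fun f : MulAut T => (f : T → T)) DFunLike.coe_injective
  obtain ⟨t0, ht0⟩ := h.exists_comm φ
  set ψ : MulAut T := MulAut.conj t0 * φ with hψ
  have hX : orderOf (MulAut.conj x : MulAut T) = r := by rw [orderOf_injective _ hinj, hx]
  obtain ⟨k, m, hm, hkm⟩ := Nat.exists_eq_pow_mul_and_not_dvd (orderOf_pos ψ).ne' r hr.ne_one
  set o := orderOf ((ψ : MulAut T) : Cfsg.Out T) with ho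
  have hor : ¬ r ∣ o := fun h1 => hout (h1.trans (orderOf_dvd_natCard _))
  have hcop : Nat.Coprime o (r ^ k) := Nat.Coprime.pow_right _ ((Nat.Prime.coprime_iff_not_dvd hr).2 hor).symm
  obtain ⟨N, hN1, hN2⟩ := Nat.chineseRemainder hcop 1 0
  have hN2' : r ^ k ∣ N := (Nat.modEq_zero_iff_dvd).1 hN2
  -- `ψ ^ N`
  have hmk : ((ψ ^ N : MulAut T) : Cfsg.Out T) = (ψ : Cfsg.Out T) := by
    rw [QuotientGroup.mk_pow]
    have h1 : ((ψ : MulAut T) : Cfsg.Out T) ^ N = ((ψ : MulAut T) : Cfsg.Out T) ^ 1 := pow_eq_pow_iff_modEq.2 hN1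
    rwa [pow_one] at h1
  obtain ⟨w, hw⟩ : ∃ w : T, MulAut.conj w = (ψ⁻¹ * ψ ^ N : MulAut T) := by
    have h1 := QuotientGroup.eq.1 hmk.symm
    exact h1
  have hψN : ψ ^ N = MulAut.conj (ψ w * t0) * φ := by
    have h1 : ψ ^ N = ψ * MulAut.conj w := by rw [hw, mul_inv_cancel_left]
    rw [h1, mul_conj, map_mul, hψ]
    exact (mul_assoc _ _ _).symm
  have hdm : orderOf (ψ ^ N) ∣ m := by
    rw [orderOf_dvd_iff_pow_eq_one, ← pow_mul, ← orderOf_dvd_iff_pow_eq_one, hkm]
    exact Nat.mul_dvd_mul_right hN2' m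
  have hrm : ¬ r ∣ orderOf (ψ ^ N) := fun h1 => hm (h1.trans hdm)
  have hcomm : Commute (MulAut.conj x : MulAut T) (ψ ^ N) := (ht0.symm).pow_right N
  refine ⟨ψ w * t0, x * (ψ w * t0), by rwa [← hψN], ?_⟩
  rw [map_mul, mul_assoc, ← hψN, hcomm.orderOf_mul_eq_mul_orderOf_of_coprime, hX]
  rw [hX]
  exact (Nat.Prime.coprime_iff_not_dvd hr).2 hrm

/-- `Cos` from one prime -/
theorem Cos.of_at [Finite T] {x : T} (h : AT T x) {r : ℕ} (hr : r.Prime) (hx : orderOf x = r)
    (hinj : Function.Injective (MulAut.conj : T →* MulAut T)) (hout : ¬ r ∣ Nat.card (Cfsg.Out T)) : Cos T := by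
  have hfin : Finite (MulAut T) := Finite.of_injective (fun f : MulAut T => (f : T → T)) DFunLike.coe_injective
  intro φ _
  obtain ⟨s, t, h1, h2⟩ := h.orders hr hx hinj hout φ
  by_cases h3 : orderOf (MulAut.conj s * φ) = orderOf φ
  · refine ⟨t, fun h4 => ?_⟩
    rw [h2, ← h3] at h4
    have h5 := orderOf_pos (MulAut.conj s * φ)
    have h6 := hr.two_le
    nlinarith
  · exact ⟨s, h3⟩

/-- `Cos3` from two primes -/
theorem Cos3.of_at [Finite T] {x y : T} (h : AT T x) (h' : AT T y) {r r' : ℕ} (hr : r.Prime) (hr' : r'.Prime)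
    (hne : r ≠ r') (hx : orderOf x = r) (hy : orderOf y = r')
    (hinj : Function.Injective (MulAut.conj : T →* MulAut T)) (hout : ¬ r ∣ Nat.card (Cfsg.Out T))
    (hout' : ¬ r' ∣ Nat.card (Cfsg.Out T)) : Cos3 T := by
  have hfin : Finite (MulAut T) := Finite.of_injective (fun f : MulAut T => (f : T → T)) DFunLike.coe_injective
  intro φ _
  obtain ⟨s, t, h1, h2⟩ := h.orders hr hx hinj hout φ
  obtain ⟨u, v, h3, h4⟩ := h'.orders hr' hy hinj hout' φ
  have hst : orderOf (MulAut.conj s * φ) ≠ orderOf (MulAut.conj t * φ) := by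
    intro h5
    apply h1
    rw [h5, h2]
    exact dvd_mul_right _ _
  by_cases h5 : r' ∣ orderOf (MulAut.conj s * φ)
  · refine ⟨s, t, u, hst, fun h6 => h3 (h6 ▸ h5), fun h6 => h3 ?_⟩
    rw [← h6, h2]
    exact h5.mul_left r
  · refine ⟨s, t, v, hst, fun h6 => h5 ?_, fun h6 => h5 ?_⟩
    · rw [h6, h4]
      exact dvd_mul_right _ _
    · have h7 : r' ∣ r * orderOf (MulAut.conj s * φ) := by
        rw [← h2, h6, h4]
        exact dvd_mul_right _ _
      rcases hr'.dvd_mul.1 h7 with h8 | h8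
      · exact absurd ((Nat.prime_dvd_prime_iff_eq hr' hr).1 h8).symm hne
      · exact h8

end at_

end Cfsg.Agent.H149.Der
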