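import Cfsg.Agent.H149.Der.SevenO83
import Cfsg.Agent.H149.Der.CosThree
import Cfsg.Agent.H385.Otp.Base
import Cfsg.Agent.H934.OutB
import Cfsg.Agent.SmallSimple.SylowPrimeCount
import Cfsg.Agent.S0817

/-!
# `PΩ⁺₈(3)`: the classes of elements of orders 7 and 13 (helper149)

* `cent_seven`, `no_three` : subgroups of order 7
* `at_seven`, `at_thirteen` : the `Aut T`-classes of elements of orders 7 and 13 are `T`-classes
* `cos_t8`, `cos3_t8`, `outBadN_t8`
-/

set_option autoImplicit false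
set_option maxRecDepth 100000

namespace Cfsg.Agent.H149.Der

open Subgroup Cfsg.Agent.H439.Der

section classes

variable {T : Type*} [Group T] [Finite T] {r : ℕ}

theorem exists_conj_mem (hr : r.Prime) (h2 : ¬ r ^ 2 ∣ Nat.card T) {x y : T} (hx : orderOf x = r) (hy : orderOf y = r) :
    ∃ g : T, g * y * g⁻¹ ∈ zpowers x := by
  haveI : Fact r.Prime := ⟨hr⟩
  obtain ⟨P, hP⟩ := H970.StabNum.exists_sylow_of_card (T := T) h2 (P := zpowers x) (by rw [Nat.card_zpowers, hx])
  obtain ⟨Q, hQ⟩ := H970.StabNum.exists_sylow_of_card (T := T) h2 (P := zpowers y) (by rw [Nat.card_zpowers, hy])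
  obtain ⟨g, hg⟩ := MulAction.exists_smul_eq T Q P
  refine ⟨g, ?_⟩
  rw [← hP, ← hg, Sylow.coe_subgroup_smul, hQ]
  exact ⟨y, mem_zpowers y, rfl⟩

theorem conjPow_subset {x : T} (hx : x ≠ 1) : conjPow x ⊆ {y | y ∈ zpowers x ∧ y ≠ 1} := by
  rintro y ⟨hy, g, rfl⟩
  refine ⟨hy, fun h => hx ?_⟩
  rwa [mul_inv_eq_one, mul_eq_left] at h

theorem card_punctured {x : T} (hx : orderOf x = r) : Set.ncard {y : T | y ∈ zpowers x ∧ y ≠ 1} = r - 1 := by
  have h1 : {y : T | y ∈ zpowers x ∧ y ≠ 1} = (zpowers x : Set T) \ {1} := by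
    ext y
    simp
  rw [h1, Set.ncard_sdiff_singleton_of_mem (one_mem _)]
  have h2 : (zpowers x : Set T).ncard = Nat.card (zpowers x) := rfl
  rw [h2, Nat.card_zpowers, hx]

/-- one class -/
theorem one_class (hr : r.Prime) (h2 : ¬ r ^ 2 ∣ Nat.card T) {x y : T} (hx : orderOf x = r) (hy : orderOf y = r)
    (hk : Nat.card (conjPow x) = r - 1) : ∃ g : T, g * y * g⁻¹ = x := by
  have hx1 : x ≠ 1 := by
    rintro rfl
    rw [orderOf_one] at hx
    exact hr.one_lt.ne hx
  obtain ⟨g, hg⟩ := exists_conj_mem hr h2 hx hy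
  have h3 : conjPow x = {y | y ∈ zpowers x ∧ y ≠ 1} :=
    Set.eq_of_subset_of_ncard_le (conjPow_subset hx1) (by
      rw [card_punctured hx, ← hk]
      exact le_rfl) (Set.toFinite _)
  have h4 : g * y * g⁻¹ ∈ conjPow x := by
    rw [h3]
    refine ⟨hg, fun h => ?_⟩
    rw [mul_inv_eq_one, mul_eq_left] at h
    rw [h, orderOf_one] at hy
    exact hr.one_lt.ne hy
  obtain ⟨-, h, hh⟩ := h4
  refine ⟨h⁻¹ * g, ?_⟩
  have h5 : h⁻¹ * g * y * (h⁻¹ * g)⁻¹ = h⁻¹ * (g * y * g⁻¹) * h := by group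
  rw [h5, ← hh]
  group

/-- two classes -/
theorem two_class (hr : r.Prime) (h2 : ¬ r ^ 2 ∣ Nat.card T)
    (hk : ∀ x : T, orderOf x = r → 2 * Nat.card (conjPow x) = r - 1) {x y z : T} (hx : orderOf x = r)
    (hy : orderOf y = r) (hz : orderOf z = r) (hxy : ∀ g : T, g * x * g⁻¹ ≠ y) (hxz : ∀ g : T, g * x * g⁻¹ ≠ z) :
    ∃ g : T, g * y * g⁻¹ = z := by
  obtain ⟨a, ha⟩ := exists_conj_mem hr h2 hx hy
  obtain ⟨b, hb⟩ := exists_conj_mem hr h2 hx hz
  set y' := a * y * a⁻¹ with hy'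
  set z' := b * z * b⁻¹ with hz'
  have hoy : orderOf y' = r := by rw [hy', orderOf_conj, hy]
  have hoz : orderOf z' = r := by rw [hz', orderOf_conj, hz]
  have hne : ∀ w : T, orderOf w = r → w ≠ 1 := by
    rintro w hw rfl
    rw [orderOf_one] at hw
    exact hr.one_lt.ne hw
  have hzp : zpowers y' = zpowers x := by
    refine Subgroup.eq_of_le_of_card_ge ((zpowers_le).2 ha) ?_
    rw [Nat.card_zpowers, Nat.card_zpowers, hx, hoy]
  have hs1 := conjPow_subset (hne x hx)
  have hs2 := conjPow_subset (hne y' hoy)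
  rw [hzp] at hs2
  have hd : Disjoint (conjPow x) (conjPow y') := by
    rw [Set.disjoint_left]
    rintro w ⟨-, g, hg⟩ ⟨-, h, hh⟩
    apply hxy (a⁻¹ * h⁻¹ * g)
    have h5 : a⁻¹ * h⁻¹ * g * x * (a⁻¹ * h⁻¹ * g)⁻¹ = a⁻¹ * (h⁻¹ * (g * x * g⁻¹) * h) * a := by group
    rw [h5, hg, ← hh, hy']
    group
  have hu : conjPow x ∪ conjPow y' = {w | w ∈ zpowers x ∧ w ≠ 1} := by
    refine Set.eq_of_subset_of_ncard_le (Set.union_subset hs1 hs2) ?_ (Set.toFinite _)
    rw [card_punctured hx, Set.ncard_union_eq hd (Set.toFinite _) (Set.toFinite _)]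
    have h5 := hk x hx
    have h6 := hk y' hoy
    have h7 : Nat.card (conjPow x) = (conjPow x).ncard := rfl
    have h8 : Nat.card (conjPow y') = (conjPow y').ncard := rfl
    omega
  have h4 : z' ∈ conjPow x ∪ conjPow y' := by
    rw [hu]
    exact ⟨hb, hne z' hoz⟩
  rcases h4 with ⟨-, h, hh⟩ | ⟨-, h, hh⟩
  · exfalso
    apply hxz (b⁻¹ * h)
    have h5 : b⁻¹ * h * x * (b⁻¹ * h)⁻¹ = b⁻¹ * (h * x * h⁻¹) * b := by group
    rw [h5, hh, hz']
    group
  · refine ⟨b⁻¹ * h * a, ?_⟩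
    have h5 : b⁻¹ * h * a * y * (b⁻¹ * h * a)⁻¹ = b⁻¹ * (h * (a * y * a⁻¹) * h⁻¹) * b := by group
    rw [h5, ← hy', hh, hz']
    group

theorem AT.of_one (hr : r.Prime) (h2 : ¬ r ^ 2 ∣ Nat.card T) {x : T} (hx : orderOf x = r)
    (hk : Nat.card (conjPow x) = r - 1) : AT T x := fun φ =>
  one_class hr h2 hx (by rw [MulEquiv.orderOf_eq, hx]) hk

theorem AT.of_two (hr : r.Prime) (h2 : ¬ r ^ 2 ∣ Nat.card T)
    (hk : ∀ x : T, orderOf x = r → 2 * Nat.card (conjPow x) = r - 1) (honly : ∀ g : T, r ∣ orderOf g → orderOf g = r)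
    (hsc : ¬ SC T r) {x : T} (hx : orderOf x = r) : AT T x := by
  intro φ
  by_contra hcon
  push Not at hcon
  have hxφ : ∀ g : T, g * x * g⁻¹ ≠ φ x := by
    intro g hg
    apply hcon g⁻¹
    rw [← hg]
    group
  have hφ : orderOf (φ x) = r := by rw [MulEquiv.orderOf_eq, hx]
  have key : ∀ u : T, r ∣ orderOf u → ∃ ψ : T ≃* T, ψ x = u := by
    intro u hu
    by_cases h : ∃ g : T, g * x * g⁻¹ = u
    · obtain ⟨g, hg⟩ := h
      exact ⟨MulAut.conj g, hg⟩
    · push Not at h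
      obtain ⟨g, hg⟩ := two_class hr h2 hk hx hφ (honly u hu) hxφ h
      exact ⟨φ.trans (MulAut.conj g), hg⟩
  apply hsc
  intro u v hu hv
  obtain ⟨ψ, hψ⟩ := key u hu
  obtain ⟨χ, hχ⟩ := key v hv
  refine ⟨ψ.symm.trans χ, ?_⟩
  rw [MulEquiv.trans_apply, ← hψ, MulEquiv.symm_apply_apply, hχ]

/-- Sylow's congruence -/
theorem mod_normalizer (hr : r.Prime) (h2 : ¬ r ^ 2 ∣ Nat.card T) {x : T} (hx : orderOf x = r) :
    ∃ n : ℕ, Nat.card T = Nat.card (conjPow x) * Nat.card (centralizer ({x} : Set T)) * n ∧ n % r = 1 := by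
  haveI : Fact r.Prime := ⟨hr⟩
  obtain ⟨P, hP⟩ := H970.StabNum.exists_sylow_of_card (T := T) h2 (P := zpowers x) (by rw [Nat.card_zpowers, hx])
  have h1 := card_sylow_modEq_one r T
  have hP' : (P : Set T) = (zpowers x : Set T) := congrArg (fun H : Subgroup T => (H : Set T)) hP
  rw [P.card_eq_index_normalizer, hP'] at h1
  refine ⟨(normalizer (zpowers x : Set T)).index, ?_, ?_⟩
  · rw [card_conjPow_mul]
    exact (Subgroup.card_mul_index _).symm
  · have h3 : (normalizer (zpowers x : Set T)).index % r = 1 % r := h1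
    rwa [Nat.mod_eq_of_lt hr.one_lt] at h3

theorem centralizer_zpowers (x : T) : centralizer ((zpowers x : Subgroup T) : Set T) = centralizer ({x} : Set T) := by
  rw [zpowers_eq_closure, centralizer_closure]

end classes

namespace O8

open Cfsg Cfsg.Agent.H503.El.O83 Cfsg.Agent.LieClassical.OrthForms Cfsg.Agent.H385.Otp

theorem dat8 : Dat7 (plusForm 4 (ZMod 3)) := by
  have hN : ∀ c : ZMod 3, 3 * Nat.card {v : Fin 4 ⊕ Fin 4 → ZMod 3 // plusForm 4 (ZMod 3) v = c} + 3 ^ 4 =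
      3 ^ (2 * 4) + if c = 0 then 3 ^ (4 + 1) else 0 := by
    intro c
    have h := Cfsg.Agent.LieClassical.QuadCount.card_plus (F := ZMod 3) 4 c
    rw [ZMod.card] at h
    rw [coe_plusForm]
    exact h
  refine ⟨Cfsg.Agent.H134.OmegaThree.plus_dat (ZMod.card 3), by simp, ?_, ?_⟩
  · have h := hN 0
    rw [if_pos rfl] at h
    omega
  · have h := hN 1
    rw [if_neg one_ne_zero] at h
    omega

theorem le_four {s : T8} (hs : orderOf s = 7) (E : Subgroup T8) (hE : ∀ e ∈ E, e * e = 1)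
    (hc : ∀ e ∈ E, Commute e s) : Nat.card E ≤ 4 := by
  have h : ∀ (s : POmega (ZMod 3) ⇑(plusForm 4 (ZMod 3))), orderOf s = 7 →
      ∀ (E : Subgroup (POmega (ZMod 3) ⇑(plusForm 4 (ZMod 3)))), (∀ e ∈ E, e * e = 1) → (∀ e ∈ E, Commute e s) →
        Nat.card E ≤ 4 := fun s hs E hE hc => dat8.card_le_four hs E hE hc
  rw [coe_plusForm] at h
  exact h s hs E hE hc

theorem no_three' {s : T8} (hs : orderOf s = 7) (E : Subgroup T8) (hE : IsPGroup 3 E)
    (hn : ∀ e ∈ E, s * e * s⁻¹ ∈ E) : E = ⊥ := by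
  have h : ∀ (s : POmega (ZMod 3) ⇑(plusForm 4 (ZMod 3))), orderOf s = 7 →
      ∀ (E : Subgroup (POmega (ZMod 3) ⇑(plusForm 4 (ZMod 3)))), IsPGroup 3 E → (∀ e ∈ E, s * e * s⁻¹ ∈ E) →
        E = ⊥ := fun s hs E hE hn => dat8.no_three hs E hE hn
  rw [coe_plusForm] at h
  exact h s hs E hE hn

theorem exists_gen {P : Subgroup T8} {r : ℕ} (hr : r.Prime) (hP : Nat.card P = r) :
    ∃ s : T8, orderOf s = r ∧ P = zpowers s := by
  haveI : Fact r.Prime := ⟨hr⟩
  obtain ⟨s, hs⟩ := exists_prime_orderOf_dvd_card' (G := P) r (by rw [hP])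
  have hs' : orderOf (s : T8) = r := by rw [Subgroup.orderOf_coe, hs]
  refine ⟨s, hs', (Subgroup.eq_of_le_of_card_ge ((zpowers_le).2 s.2) ?_).symm⟩
  rw [Nat.card_zpowers, hs', hP]

/-- **a subgroup of order 7 normalizes no non-trivial 3-subgroup** -/
theorem no_three {P Q : Subgroup T8} (hP : Nat.card P = 7) (hQ : IsPGroup 3 Q)
    (h : P ≤ Subgroup.normalizer (Q : Set T8)) : Q = ⊥ := by
  obtain ⟨s, hs, rfl⟩ := exists_gen (by norm_num) hP
  exact no_three' hs Q hQ fun e he => (mem_normalizer_iff.1 (h (mem_zpowers s)) e).1 he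

theorem card_cent_seven {s : T8} (hs : orderOf s = 7) : Nat.card (centralizer ({s} : Set T8)) ∣ 28 := by
  have hcomm : ∀ c ∈ centralizer ({s} : Set T8), Commute c s := fun c hc => mem_centralizer_singleton_iff.1 hc
  have hord : ∀ c ∈ centralizer ({s} : Set T8), Nat.Coprime (orderOf c) 7 → orderOf c * 7 ∈ H899.O7.Om := by
    intro c hc hcop
    have h1 : orderOf (c * s) = orderOf c * 7 := by
      rw [(hcomm c hc).orderOf_mul_eq_mul_orderOf_of_coprime (by rw [hs]; exact hcop), hs]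
    rw [← h1]
    by_contra h2
    exact not_order h2 (c * s) rfl
  have hno : ∀ r : ℕ, r.Prime → r ≠ 7 → r * 7 ∉ H899.O7.Om → ¬ r ∣ Nat.card (centralizer ({s} : Set T8)) := by
    intro r hr hr7 hrO hd
    haveI : Fact r.Prime := ⟨hr⟩
    obtain ⟨c, hc⟩ := exists_prime_orderOf_dvd_card' r hd
    have hc' : orderOf (c : T8) = r := by rw [Subgroup.orderOf_coe, hc]
    have h1 := hord c c.2 (by rw [hc']; exact (Nat.coprime_primes hr (by norm_num)).2 hr7)
    rw [hc'] at h1
    exact hrO h1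
  have h3 := hno 3 (by norm_num) (by norm_num) (by decide)
  have h5 := hno 5 (by norm_num) (by norm_num) (by decide)
  have h13 := hno 13 (by norm_num) (by norm_num) (by decide)
  have h8 : ¬ 2 ^ 3 ∣ Nat.card (centralizer ({s} : Set T8)) := by
    intro hd
    haveI : Fact (Nat.Prime 2) := ⟨Nat.prime_two⟩
    obtain ⟨E, hE⟩ := Sylow.exists_subgroup_card_pow_prime 2 hd
    have hE' : Nat.card (E.map (centralizer ({s} : Set T8)).subtype) = 8 := by
      rw [← Nat.card_congr (E.equivMapOfInjective _ (centralizer ({s} : Set T8)).subtype_injective).toEquiv, hE]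
      norm_num
    have h4 := le_four hs (E.map (centralizer ({s} : Set T8)).subtype) ?_ ?_
    · omega
    · rintro _ ⟨e, he, rfl⟩
      have h6 : orderOf (e : T8) ∣ 8 := by
        rw [Subgroup.orderOf_coe]
        have h7 := Subgroup.orderOf_dvd_natCard E he
        rwa [hE] at h7
      have h7 := hord (e : T8) e.2 (Nat.Coprime.coprime_dvd_left h6 (by norm_num))
      have h8 : orderOf (e : T8) ∣ 2 := by
        have h9 : ∀ n ∈ Nat.divisors 8, n * 7 ∈ H899.O7.Om → n ∣ 2 := by decide +kernel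
        exact h9 _ (Nat.mem_divisors.2 ⟨h6, by norm_num⟩) h7
      rw [← pow_two]
      exact orderOf_dvd_iff_pow_eq_one.1 h8
    · rintro _ ⟨e, he, rfl⟩
      exact hcomm e e.2
  have hT : Nat.card (centralizer ({s} : Set T8)) ∣ 2 ^ 12 * 7 * (3 ^ 12 * 5 ^ 2 * 13) := by
    have h1 := Subgroup.card_subgroup_dvd_card (centralizer ({s} : Set T8))
    rw [card_t8] at h1
    exact h1.trans (by norm_num)
  have hcop : Nat.Coprime (Nat.card (centralizer ({s} : Set T8))) (3 ^ 12 * 5 ^ 2 * 13) := by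
    have c3 := (Nat.Coprime.pow_left 12 ((Nat.Prime.coprime_iff_not_dvd (by norm_num)).2 h3)).symm
    have c5 := (Nat.Coprime.pow_left 2 ((Nat.Prime.coprime_iff_not_dvd (by norm_num)).2 h5)).symm
    have c13 := ((Nat.Prime.coprime_iff_not_dvd (by norm_num)).2 h13).symm
    exact (c3.mul_right c5).mul_right c13
  have h1 := hcop.dvd_of_dvd_mul_right hT
  obtain ⟨a, b, ha, hb, hab⟩ := (Nat.dvd_mul).1 h1
  obtain ⟨k, hk, rfl⟩ := (Nat.dvd_prime_pow Nat.prime_two).1 ha
  have hk2 : k ≤ 2 := by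
    by_contra hlt
    apply h8
    rw [← hab]
    exact (pow_dvd_pow 2 (by omega : 3 ≤ k)).mul_right b
  rw [← hab]
  exact Nat.mul_dvd_mul (pow_dvd_pow 2 hk2) hb

/-- **centralizers and normalizers of subgroups of order 7** -/
theorem cent_seven (P : Subgroup T8) (hP : Nat.card P = 7) :
    Nat.card (Subgroup.centralizer (P : Set T8)) ∣ 7 * 4 ∧ Nat.card (Subgroup.normalizer (P : Set T8)) ∣ 7 * 24 := by
  obtain ⟨s, hs, rfl⟩ := exists_gen (by norm_num) hP
  have h1 : Nat.card (Subgroup.centralizer ((zpowers s : Subgroup T8) : Set T8)) ∣ 28 := by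
    rw [centralizer_zpowers]
    exact card_cent_seven hs
  refine ⟨h1, ?_⟩
  have h2 := Cfsg.Agent.SmallSimple.SylowPrimeCount.card_normalizer_dvd (p := 7) (by norm_num) hP
    (Cfsg.Agent.SmallSimple.SylowPrimeCount.centralizer_le_normalizer' _)
  exact h2.trans ((Nat.mul_dvd_mul_left _ h1).trans (by norm_num))

theorem not_sq (r : ℕ) (hr : r = 7 ∨ r = 13) : ¬ r ^ 2 ∣ Nat.card T8 := by
  rw [card_t8]
  rcases hr with rfl | rfl <;> norm_num

theorem two_dvd_cent {s : T8} (hs : orderOf s = 7) : 2 ∣ Nat.card (centralizer ({s} : Set T8)) := by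
  obtain ⟨g, hg⟩ := exists_order (n := 14) (by decide)
  have h1 : orderOf (g ^ 2) = 7 := by rw [orderOf_pow, hg]; norm_num
  have h2 : orderOf (g ^ 7) = 2 := by rw [orderOf_pow, hg]; norm_num
  obtain ⟨a, ha⟩ := exists_conj_mem (by norm_num) (not_sq 7 (Or.inl rfl)) h1 hs
  -- `a s a⁻¹ ∈ ⟨g²⟩`
  have h3 : a⁻¹ * g ^ 7 * a ∈ centralizer ({s} : Set T8) := by
    rw [mem_centralizer_singleton_iff]
    have h4 : (g ^ 7) * (a * s * a⁻¹) = (a * s * a⁻¹) * g ^ 7 := by
      obtain ⟨j, hj⟩ := ha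
      have hj' : (g ^ 2) ^ j = a * s * a⁻¹ := hj
      rw [← hj']
      exact (((Commute.refl g).pow_pow 7 2).zpow_right j).eq
    calc a⁻¹ * g ^ 7 * a * s = a⁻¹ * (g ^ 7 * (a * s * a⁻¹)) * a := by group
      _ = a⁻¹ * ((a * s * a⁻¹) * g ^ 7) * a := by rw [h4]
      _ = s * (a⁻¹ * g ^ 7 * a) := by group
  have h5 : orderOf (a⁻¹ * g ^ 7 * a) = 2 := by
    have h6 := orderOf_conj a⁻¹ (g ^ 7)
    rw [inv_inv] at h6
    rw [h6, h2]
  have h7 := Subgroup.orderOf_dvd_natCard _ h3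
  rwa [h5] at h7

theorem card_conjPow_seven {s : T8} (hs : orderOf s = 7) : Nat.card (conjPow s) = 6 := by
  obtain ⟨n, hn, hn1⟩ := mod_normalizer (by norm_num) (not_sq 7 (Or.inl rfl)) hs
  have hC := card_cent_seven hs
  have h2 := two_dvd_cent hs
  have h7 : 7 ∣ Nat.card (centralizer ({s} : Set T8)) := by
    have h3 := Subgroup.orderOf_dvd_natCard (centralizer ({s} : Set T8))
      (mem_centralizer_singleton_iff.2 rfl : s ∈ centralizer ({s} : Set T8))
    rwa [hs] at h3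
  have hN := Cfsg.Agent.SmallSimple.SylowPrimeCount.card_normalizer_dvd (p := 7) (P := zpowers s) (by norm_num)
    (by rw [Nat.card_zpowers, hs]) (Cfsg.Agent.SmallSimple.SylowPrimeCount.centralizer_le_normalizer' _)
  rw [centralizer_zpowers, ← card_conjPow_mul] at hN
  have hc0 : 0 < Nat.card (centralizer ({s} : Set T8)) := Nat.card_pos
  have hk6 : Nat.card (conjPow s) ∣ 6 := Nat.dvd_of_mul_dvd_mul_right hc0 hN
  rw [card_t8] at hn
  obtain ⟨d, hd⟩ : 14 ∣ Nat.card (centralizer ({s} : Set T8)) :=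
    (Nat.Coprime.mul_dvd_of_dvd_of_dvd (by norm_num : Nat.Coprime 2 7) h2 h7)
  rw [hd] at hn hC
  have hd2 : d ∣ 2 := Nat.dvd_of_mul_dvd_mul_left (by norm_num : 0 < 14) hC
  generalize Nat.card (conjPow s) = k at hn hk6
  have hk : k ∈ Nat.divisors 6 := Nat.mem_divisors.2 ⟨hk6, by norm_num⟩
  have hk' : k = 1 ∨ k = 2 ∨ k = 3 ∨ k = 6 := by
    have : Nat.divisors 6 = {1, 2, 3, 6} := by decide +kernel
    rw [this] at hk
    simpa using hk
  have hd' : d = 1 ∨ d = 2 := (Nat.dvd_prime Nat.prime_two).1 hd2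
  rcases hk' with rfl | rfl | rfl | rfl <;> rcases hd' with rfl | rfl <;> first | rfl | (exfalso; omega)

theorem at_seven {s : T8} (hs : orderOf s = 7) : AT T8 s :=
  AT.of_one (by norm_num) (not_sq 7 (Or.inl rfl)) hs (card_conjPow_seven hs)

theorem card_conjPow_thirteen {s : T8} (hs : orderOf s = 13) : Nat.card (conjPow s) = 6 := by
  haveI h13p : Fact (Nat.Prime 13) := ⟨by norm_num⟩
  have hent := H503.El.entry_of_ex (T := T8) (N := 4952179814400) (p := 13) (M := 6) (by norm_num) card_t8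
    (by norm_num) (by norm_num) (by decide +kernel)
    (H134.OmegaThree.omega_plus_three (F := ZMod 3) (ZMod.card 3)) (zpowers s) (by rw [Nat.card_zpowers, hs])
  obtain ⟨n, hn, hn1⟩ := mod_normalizer (by norm_num) (not_sq 13 (Or.inr rfl)) hs
  rw [centralizer_zpowers, ← card_conjPow_mul] at hent
  obtain ⟨h1, h2⟩ := hent
  have h7 : 13 ∣ Nat.card (centralizer ({s} : Set T8)) := by
    have h3 := Subgroup.orderOf_dvd_natCard (centralizer ({s} : Set T8))
      (mem_centralizer_singleton_iff.2 rfl : s ∈ centralizer ({s} : Set T8))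
    rwa [hs] at h3
  have h8 : Nat.card (centralizer ({s} : Set T8)) = 13 := Nat.dvd_antisymm (by simpa using h1) h7
  rw [h8] at hn h2
  rw [card_t8] at hn
  have hk6 : Nat.card (conjPow s) ∣ 6 :=
    Nat.dvd_of_mul_dvd_mul_right (by norm_num : 0 < 13) (by rw [mul_comm 6 13]; exact h2)
  generalize Nat.card (conjPow s) = k at hn hk6
  have hk : k ∈ Nat.divisors 6 := Nat.mem_divisors.2 ⟨hk6, by norm_num⟩
  have hk' : k = 1 ∨ k = 2 ∨ k = 3 ∨ k = 6 := by
    have : Nat.divisors 6 = {1, 2, 3, 6} := by decide +kernel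
    rw [this] at hk
    simpa using hk
  rcases hk' with rfl | rfl | rfl | rfl <;> first | rfl | (exfalso; omega)

theorem at_thirteen {s : T8} (hs : orderOf s = 13) : AT T8 s := by
  refine AT.of_two (r := 13) (by norm_num) (not_sq 13 (Or.inr rfl)) (fun x hx => ?_) (fun g hg => ?_) not_sc_13 hs
  · rw [card_conjPow_thirteen hx]
  · have h1 : orderOf g ∈ H899.O7.Om := by
      by_contra h2
      exact not_order h2 g rfl
    obtain ⟨m, hm, hd⟩ := h1
    have h3 : ∀ m ∈ H899.O7.PolyList.exps, ∀ n ∈ Nat.divisors m, 13 ∣ n → n = 13 := by decide +kernel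
    refine h3 m hm _ (Nat.mem_divisors.2 ⟨hd, ?_⟩) hg
    have h4 : ∀ m ∈ H899.O7.PolyList.exps, m ≠ 0 := by decide +kernel
    exact h4 m hm

theorem card_out_t8 : Nat.card (Out T8) = 24 := by
  have hs : IsSimpleGroup T8 := simpleT8
  refine Cfsg.Agent.H934.OutB.card_out_of_aut (X := T8) ?_ ?_
  · intro hc
    have h1 : ∀ a b : T8, a * b = b * a := hc.is_comm.comm
    have h2 : Fact (Nat.Prime 2) := ⟨Nat.prime_two⟩
    obtain ⟨x, hx⟩ := exists_prime_orderOf_dvd_card' (G := T8) 2 (by rw [card_t8]; norm_num)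
    have hn : (Subgroup.zpowers x).Normal := ⟨fun n hn g => by
      rw [h1 g n, mul_inv_cancel_right]
      exact hn⟩
    rcases hn.eq_bot_or_eq_top with h3 | h3
    · rw [Subgroup.zpowers_eq_bot] at h3
      rw [h3, orderOf_one] at hx
      norm_num at hx
    · have h4 := Nat.card_zpowers x
      rw [h3, Subgroup.card_top, card_t8, hx] at h4
      norm_num at h4
  · have h3 : Fact (Nat.Prime 3) := ⟨Nat.prime_three⟩
    have h1 := S0817.result (F := ZMod 3) 3 1 le_rfl (by rw [ZMod.card, pow_one]) 4 le_rfl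
    rw [h1]
    norm_num

theorem center_t8 : Subgroup.center T8 = ⊥ := by
  have hs : IsSimpleGroup T8 := simpleT8
  rcases (inferInstance : (Subgroup.center T8).Normal).eq_bot_or_eq_top with h | h
  · exact h
  · exfalso
    obtain ⟨x, hx⟩ := exists_order (n := 7) (by decide)
    have h1 := card_cent_seven hx
    have h2 : centralizer ({x} : Set T8) = ⊤ := by
      rw [eq_top_iff]
      intro g _
      rw [mem_centralizer_singleton_iff]
      have h3 : g ∈ Subgroup.center T8 := by rw [h]; trivial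
      exact (mem_center_iff.1 h3 x).symm
    rw [h2, Subgroup.card_top, card_t8] at h1
    norm_num at h1

theorem conj_inj : Function.Injective (MulAut.conj : T8 →* MulAut T8) := by
  rw [injective_iff_map_eq_one]
  intro g hg
  have h1 : g ∈ Subgroup.center T8 := by
    rw [mem_center_iff]
    intro y
    have h2 : (MulAut.conj g : MulAut T8) y = y := by rw [hg]; rfl
    rw [MulAut.conj_apply, mul_inv_eq_iff_eq_mul] at h2
    exact h2.symm
  rwa [center_t8, Subgroup.mem_bot] at h1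

theorem cos_t8 : Cos T8 := by
  obtain ⟨x, hx⟩ := exists_order (n := 7) (by decide)
  exact Cos.of_at (at_seven hx) (by norm_num) hx conj_inj (by rw [card_out_t8]; norm_num)

theorem cos3_t8 : Cos3 T8 := by
  obtain ⟨x, hx⟩ := exists_order (n := 7) (by decide)
  obtain ⟨y, hy⟩ := exists_order (n := 13) (by decide)
  exact Cos3.of_at (at_seven hx) (at_thirteen hy) (by norm_num) (by norm_num) (by norm_num) hx hy conj_inj
    (by rw [card_out_t8]; norm_num) (by rw [card_out_t8]; norm_num)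

/-- **subgroups missing 7 or 13** -/
theorem outBadN_t8 (r : ℕ) (R : Subgroup T8) (hr : r = 7 ∨ r = 13) (h : ¬ r ∣ Nat.card R) : OutBadN T8 R := by
  have key : ∀ x : T8, orderOf x = r → AT T8 x → OutBadN T8 R := fun x hx hat =>
    OutBadN.of_at hat fun g hg => not_mem_of_dvd h (v := r) (by rw [hx]) (MulAut.conj g) (by
      rw [MulAut.conj_apply]; exact hg)
  rcases hr with rfl | rfl
  · obtain ⟨x, hx⟩ := exists_order (n := 7) (by decide)
    exact key x hx (at_seven hx)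
  · obtain ⟨x, hx⟩ := exists_order (n := 13) (by decide)
    exact key x hx (at_thirteen hx)

end O8

end Cfsg.Agent.H149.Der
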