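import Cfsg.Agent.H149.Der.Eng
import Cfsg.Agent.H537.CopDefs
import Cfsg.Agent.H870.Der.Tool2
import Cfsg.Agent.H904.HSIso
import Cfsg.Agent.H904.McLCent
import Cfsg.Agent.NotCT.Orders
import Cfsg.Agent.S2072
import Cfsg.Agent.S2073

/-!
# S3502: common lemmas for the Conway groups (helper149)

* `alt_cent` : `9` divides the order of the centralizer of a 5-cycle in `A₁₁`, `A₁₂`
* `false_of_alt` : `A₁₁`, `A₁₂` are not at the top if `9 ∤ |C(x)|` for the elements of order five
* `core_le` : the primes dividing the order of the core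
* `hs_facts`, `mcl_facts`
-/

set_option autoImplicit false

namespace Cfsg.Agent.H149.Der

open Subgroup Equiv
open Cfsg.Agent.OrdDiv Cfsg.Agent.H278.El Cfsg.Agent.H257.El Cfsg.Agent.H439.Der
open Cfsg.Agent.H938.Sax (orderOf_mulEquiv)
open Cfsg.Agent.H537.Cop (CB)
open Cfsg.Agent.H870.Der (exists_of_top eq_bot_of_not_dvd)

universe u

/-- two commuting elements of order `p` generating different subgroups -/
theorem sq_dvd_cent {G : Type*} [Group G] [Finite G] {p : ℕ} (hp : p.Prime) {q a b : G} (ha : orderOf a = p)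
    (hb : orderOf b = p) (hab : Commute a b) (hne : b ∉ zpowers a) (hqa : Commute q a) (hqb : Commute q b) :
    p ^ 2 ∣ Nat.card (centralizer ({q} : Set G)) := by
  have ha' : a ∈ centralizer ({q} : Set G) := mem_centralizer_singleton_iff.2 hqa.symm.eq
  have hb' : b ∈ centralizer ({q} : Set G) := mem_centralizer_singleton_iff.2 hqb.symm.eq
  have hdis : Disjoint (zpowers a) (zpowers b) := by
    rw [disjoint_iff]
    by_contra h1
    apply hne
    have h2 : Nat.card (zpowers a ⊓ zpowers b : Subgroup G) ∣ p := by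
      rw [← ha, ← Nat.card_zpowers]
      exact Subgroup.card_dvd_of_le inf_le_left
    have h3 : Nat.card (zpowers a ⊓ zpowers b : Subgroup G) = p := by
      rcases (Nat.dvd_prime hp).1 h2 with h3 | h3
      · exact absurd (Subgroup.eq_bot_of_card_eq _ h3) h1
      · exact h3
    have h4 : zpowers a ⊓ zpowers b = zpowers b := by
      apply Subgroup.eq_of_le_of_card_ge inf_le_right
      rw [h3, Nat.card_zpowers, hb]
    have h5 : b ∈ zpowers a ⊓ zpowers b := by rw [h4]; exact mem_zpowers b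
    exact h5.1
  have hcomm : ∀ (m : zpowers a) (n : zpowers b), Commute ((zpowers a).subtype m) ((zpowers b).subtype n) := by
    rintro ⟨m, hm⟩ ⟨n, hn⟩
    obtain ⟨i, rfl⟩ := mem_zpowers_iff.1 hm
    obtain ⟨j, rfl⟩ := mem_zpowers_iff.1 hn
    exact (hab.zpow_left i).zpow_right j
  let φ : zpowers a × zpowers b →* G := MonoidHom.noncommCoprod (zpowers a).subtype (zpowers b).subtype hcomm
  have hφ : Function.Injective φ := by
    rw [MonoidHom.noncommCoprod_injective]
    refine ⟨Subgroup.subtype_injective _, Subgroup.subtype_injective _, ?_⟩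
    rw [Subgroup.range_subtype, Subgroup.range_subtype]
    exact hdis
  have hmem : ∀ x, φ x ∈ centralizer ({q} : Set G) := by
    rintro ⟨m, n⟩
    have h1 : φ (m, n) = (m : G) * n := rfl
    rw [h1]
    exact mul_mem (zpowers_le.2 ha' m.2) (zpowers_le.2 hb' n.2)
  have h1 := Subgroup.card_dvd_of_injective (φ.codRestrict _ hmem) (fun x y h => hφ (congrArg Subtype.val h))
  rwa [Nat.card_prod, Nat.card_zpowers, Nat.card_zpowers, ha, hb, ← pow_two] at h1

theorem order_of {G : Type*} [Group G] {x : G} {p : ℕ} (hp : p.Prime) (h : x ^ p = 1) (h1 : x ≠ 1) : orderOf x = p :=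
  have := Fact.mk hp
  orderOf_eq_prime h h1

theorem alt_cent11 : ∃ q : alternatingGroup (Fin 11), orderOf q = 5 ∧
    3 ^ 2 ∣ Nat.card (centralizer ({q} : Set (alternatingGroup (Fin 11)))) := by
  let q : alternatingGroup (Fin 11) := ⟨c[0, 1, 2, 3, 4], Perm.mem_alternatingGroup.2 (by decide +kernel)⟩
  let a : alternatingGroup (Fin 11) := ⟨c[5, 6, 7], Perm.mem_alternatingGroup.2 (by decide +kernel)⟩
  let b : alternatingGroup (Fin 11) := ⟨c[8, 9, 10], Perm.mem_alternatingGroup.2 (by decide +kernel)⟩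
  refine ⟨q, order_of (by norm_num) (Subtype.ext (by decide +kernel)) (fun h => ?_), sq_dvd_cent Nat.prime_three
    (a := a) (b := b) (order_of (by norm_num) (Subtype.ext (by decide +kernel)) (fun h => ?_))
    (order_of (by norm_num) (Subtype.ext (by decide +kernel)) (fun h => ?_)) (Subtype.ext (by decide +kernel))
    (fun h => ?_) (Subtype.ext (by decide +kernel)) (Subtype.ext (by decide +kernel))⟩
  · have h1 : (q : Perm (Fin 11)) 0 = 0 := by rw [h]; rfl
    revert h1
    decide +kernel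
  · have h1 : (a : Perm (Fin 11)) 5 = 5 := by rw [h]; rfl
    revert h1
    decide +kernel
  · have h1 : (b : Perm (Fin 11)) 8 = 8 := by rw [h]; rfl
    revert h1
    decide +kernel
  · obtain ⟨k, hk⟩ := mem_zpowers_iff.1 h
    have h1 : (b : Perm (Fin 11)) 8 = 8 := by
      rw [← hk]
      show ((a : Perm (Fin 11)) ^ k) 8 = 8
      exact Perm.zpow_apply_eq_self_of_apply_eq_self (by decide +kernel) k
    revert h1
    decide +kernel

theorem alt_cent12 : ∃ q : alternatingGroup (Fin 12), orderOf q = 5 ∧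
    3 ^ 2 ∣ Nat.card (centralizer ({q} : Set (alternatingGroup (Fin 12)))) := by
  let q : alternatingGroup (Fin 12) := ⟨c[0, 1, 2, 3, 4], Perm.mem_alternatingGroup.2 (by decide +kernel)⟩
  let a : alternatingGroup (Fin 12) := ⟨c[5, 6, 7], Perm.mem_alternatingGroup.2 (by decide +kernel)⟩
  let b : alternatingGroup (Fin 12) := ⟨c[8, 9, 10], Perm.mem_alternatingGroup.2 (by decide +kernel)⟩
  refine ⟨q, order_of (by norm_num) (Subtype.ext (by decide +kernel)) (fun h => ?_), sq_dvd_cent Nat.prime_three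
    (a := a) (b := b) (order_of (by norm_num) (Subtype.ext (by decide +kernel)) (fun h => ?_))
    (order_of (by norm_num) (Subtype.ext (by decide +kernel)) (fun h => ?_)) (Subtype.ext (by decide +kernel))
    (fun h => ?_) (Subtype.ext (by decide +kernel)) (Subtype.ext (by decide +kernel))⟩
  · have h1 : (q : Perm (Fin 12)) 0 = 0 := by rw [h]; rfl
    revert h1
    decide +kernel
  · have h1 : (a : Perm (Fin 12)) 5 = 5 := by rw [h]; rfl
    revert h1
    decide +kernel
  · have h1 : (b : Perm (Fin 12)) 8 = 8 := by rw [h]; rfl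
    revert h1
    decide +kernel
  · obtain ⟨k, hk⟩ := mem_zpowers_iff.1 h
    have h1 : (b : Perm (Fin 12)) 8 = 8 := by
      rw [← hk]
      show ((a : Perm (Fin 12)) ^ k) 8 = 8
      exact Perm.zpow_apply_eq_self_of_apply_eq_self (by decide +kernel) k
    revert h1
    decide +kernel

section

variable {T : Type*} [Group T] [Finite T] {R : Subgroup T}

omit [Finite T] in
/-- centralizers in subgroups -/
theorem card_cent_sub (x : R) : Nat.card (centralizer ({x} : Set R)) ∣ Nat.card (centralizer ({(x : T)} : Set T)) := by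
  let f : centralizer ({x} : Set R) →* centralizer ({(x : T)} : Set T) :=
    { toFun := fun g => ⟨g, mem_centralizer_singleton_iff.2 (congrArg Subtype.val (mem_centralizer_singleton_iff.1 g.2))⟩
      map_one' := rfl
      map_mul' := fun _ _ => rfl }
  refine Subgroup.card_dvd_of_injective f fun g h hgh => ?_
  have h1 : ((g : R) : T) = ((h : R) : T) := congrArg (fun y : centralizer ({(x : T)} : Set T) => (y : T)) hgh
  exact Subtype.ext (Subtype.ext h1)

/-- **a large centralizer at the top** -/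
theorem false_of_cent {O : Subgroup R} [O.Normal] {N : Subgroup (R ⧸ O)} {A : Type*} [Group A] (e : N ≃* A) {p s j : ℕ}
    (hp : p.Prime) (hpO : ¬ p ∣ Nat.card O) (hcb : CB p s j T)
    (hA : ∃ q : A, orderOf q = p ∧ s ^ (j + 1) ∣ Nat.card (centralizer ({q} : Set A))) : False := by
  obtain ⟨q, hq, hd⟩ := hA
  have h1 : Nat.card (centralizer ({q} : Set A)) = Nat.card (centralizer ({e.symm q} : Set N)) :=
    H537.Cop.card_centralizer_equiv e.symm q
  rw [h1] at hd
  have h2 := hd.trans (card_cent_sub (T := R ⧸ O) (R := N) (e.symm q))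
  have hq' : orderOf ((e.symm q : N) : R ⧸ O) = p := by rw [Subgroup.orderOf_coe, MulEquiv.orderOf_eq, hq]
  obtain ⟨x, -, hxo, -, hx⟩ := lift_cent O hp hpO hq'
  exact hcb x (by rw [Subgroup.orderOf_coe, hxo]) (h2.trans (hx.trans (card_cent_sub x)))

/-- **`A₁₁`, `A₁₂` are not at the top.** -/
theorem false_of_alt {O : Subgroup R} [O.Normal] {N : Subgroup (R ⧸ O)} (h5 : ¬ 5 ∣ Nat.card O) (hcb : CB 5 3 1 T)
    (h : Nonempty (N ≃* alternatingGroup (Fin 11)) ∨ Nonempty (N ≃* alternatingGroup (Fin 12))) : False := by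
  rcases h with ⟨⟨e⟩⟩ | ⟨⟨e⟩⟩
  · exact false_of_cent e (by norm_num) h5 hcb alt_cent11
  · exact false_of_cent e (by norm_num) h5 hcb alt_cent12

omit [Finite T] in
/-- `|O| |N|` divides `|T|` -/
theorem core_mul_dvd {O : Subgroup R} [O.Normal] (N : Subgroup (R ⧸ O)) [Finite R] :
    Nat.card O * Nat.card N * N.index = Nat.card R := by
  rw [mul_assoc, Subgroup.card_mul_index]
  have := Subgroup.card_eq_card_quotient_mul_card_subgroup O
  rw [this, mul_comm]

/-- **the core is trivial** -/
theorem core_eq_bot {O : Subgroup R} [O.Normal] {N : Subgroup (R ⧸ O)} {m n : ℕ} (hR : Nat.card R ∣ n)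
    (hNm : m * Nat.card N = n) (hN : 5 ^ 3 ∣ Nat.card N) (h5 : ¬ 5 ∣ Nat.card O)
    (hm : ∀ s : ℕ, s.Prime → s ∣ m → s ∣ Nat.card R → s = 2 ∨ s = 3) (hm' : ¬ 2 ^ 20 ∣ m ∧ ¬ 3 ^ 20 ∣ m)
    (h2 : CB 2 5 1 T) (h3 : CB 3 5 1 T) : O = ⊥ := by
  have hOm : Nat.card O ∣ m := by
    have h1 := core_mul_dvd N (O := O) (R := R)
    have h4 : Nat.card O * Nat.card N ∣ m * Nat.card N := by
      rw [hNm]
      exact (Dvd.intro _ h1).trans hR
    exact Nat.dvd_of_mul_dvd_mul_right Nat.card_pos h4
  have hNR : Nat.card N ∣ Nat.card R := by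
    have h1 := core_mul_dvd N (O := O) (R := R)
    rw [← h1, mul_comm (Nat.card O), mul_assoc]
    exact dvd_mul_right _ _
  refine eq_bot_of_not_dvd fun s hs hsO => ?_
  have hsR : s ∣ Nat.card R := hsO.trans (Subgroup.card_subgroup_dvd_card O)
  have key : ∀ s : ℕ, s.Prime → s ∣ Nat.card O → ¬ s ^ 20 ∣ m → CB s 5 1 T →
      (∀ b, 1 ≤ b → b < 20 → ¬ 5 ^ 2 ∣ s ^ b - 1) → False := by
    intro s hs hsO hs20 hcb hb
    refine core_false O (p := 5) (s := s) (by norm_num) hs (hN.trans hNR) h5 hsO (fun z hz hd => ?_) fun b hb1 hbO => ?_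
    · exact hcb (z : T) (by rw [Subgroup.orderOf_coe, hz]) (hd.trans (card_cent_sub z))
    · by_cases h20 : b < 20
      · exact hb b hb1 h20
      · exact absurd ((pow_dvd_pow s (not_lt.1 h20)).trans (hbO.trans hOm)) hs20
  rcases hm s hs (hsO.trans hOm) hsR with rfl | rfl
  · refine key 2 hs hsO hm'.1 h2 fun b hb1 hb => ?_
    interval_cases b <;> decide
  · refine key 3 hs hsO hm'.2 h3 fun b hb1 hb => ?_
    interval_cases b <;> decide +kernel

end

/-! ### `HS` and `McL` -/

theorem card_mulAut_dvd {N : Type*} [Group N] [Finite N] :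
    Nat.card (MulAut N) ∣ Nat.card (Cfsg.Out N) * Nat.card N := by
  rw [Subgroup.card_eq_card_quotient_mul_card_subgroup (MulAut.conj (G := N)).range]
  exact Nat.mul_dvd_mul_left _ (Subgroup.card_range_dvd _)

theorem out_hs {N : Type*} [Group N] (h : Spor.IsoHS N) : Nat.card (Cfsg.Out N) = 2 := by
  obtain ⟨e⟩ := h
  rw [card_out_congr e, S2072.result]

theorem out_mcl {N : Type*} [Group N] (h : Spor.IsoMcL N) : Nat.card (Cfsg.Out N) = 2 := by
  obtain ⟨e⟩ := h
  rw [card_out_congr e, S2073.result]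

/-- elements of order seven -/
theorem cent_mcl {N : Type*} [Group N] [Finite N] (h : Spor.IsoMcL N) {x : N} (hx : orderOf x = 7) :
    Nat.card (centralizer ({x} : Set N)) ∣ 14 := by
  have h1 := (H904.McLCent.seven h (zpowers x) (by rw [Nat.card_zpowers, hx])).1
  rwa [H904.SylOne.centralizer_zpowers_eq] at h1

/-- an element of order `7 k` gives `7 k ∣ |C(x)|` -/
theorem dvd_cent_seven {N : Type*} [Group N] [Finite N] {z : N} {k : ℕ} (hz : orderOf z = 7 * k) :
    ∃ x : N, orderOf x = 7 ∧ 7 * k ∣ Nat.card (centralizer ({x} : Set N)) := by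
  have hk : 0 < 7 * k := by rw [← hz]; exact orderOf_pos z
  refine ⟨z ^ k, ?_, ?_⟩
  · rw [orderOf_pow_of_dvd (by omega) (by rw [hz]; exact dvd_mul_left _ _), hz, Nat.mul_div_cancel _ (by omega)]
  · have hm : z ∈ centralizer ({z ^ k} : Set N) := by
      rw [mem_centralizer_singleton_iff]
      exact ((Commute.refl z).pow_right k).eq
    rw [← hz]
    exact Subgroup.orderOf_dvd_natCard _ hm

theorem hs_no {N : Type*} [Group N] [Finite N] (h : Spor.IsoHS N) {k : ℕ} (hk : ¬ 7 * k ∣ 7) (z : N) :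
    orderOf z ≠ 7 * k := by
  intro hz
  obtain ⟨x, hx, hd⟩ := dvd_cent_seven hz
  rw [H904.HSIso.card_seven h hx] at hd
  exact hk hd

theorem mcl_no {N : Type*} [Group N] [Finite N] (h : Spor.IsoMcL N) {k : ℕ} (hk : ¬ 7 * k ∣ 14) (z : N) :
    orderOf z ≠ 7 * k := by
  intro hz
  obtain ⟨x, hx, hd⟩ := dvd_cent_seven hz
  exact hk (hd.trans (cent_mcl h hx))

end Cfsg.Agent.H149.Der
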