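import Cfsg.Agent.H149.Sp.CopCo
import Cfsg.Agent.CoFive.Ranks

/-!
# Dimensions of fixed spaces in the Leech lattice and groups of order `p ^ 2` (helper149)

* `sum_fix` : `a, b` commuting with `a ^ p = b ^ p = 1`: the sum of the dimensions of the fixed spaces of the `p + 1` cyclic
  subgroups of `⟨a, b⟩` is `dim V + p dim C_V(⟨a, b⟩)`
* `fd_conj`, `fd_of_zpowers`
* `exists_four` : a finite group fixing a vector, of order divisible by `25`, has an element of order five with
  `4`-dimensional fixed space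
-/

set_option autoImplicit false

namespace Cfsg.Agent.H149.Der

open Cfsg Module Subgroup
open Cfsg.Agent.SigZeroCo2.Rank (fix mem_fix)
open Cfsg.Agent.SigZeroCo2.Lin (rep Sp rep_injective)
open Cfsg.Agent.CpAutCoFive (nr mv mem_mv nr_fix nr_mem_fix mv_inv dvd_finrank_sub finrank_add eq_zero_of_fix)
open Cfsg.Agent.H149.Sp (fd finrank_Sp fd_le)
open Cfsg.Agent.H149.Sp.CopCo (nm_identity gens rep_pow comm_rep toV_mem toV_ne)

section lin

variable {V : Type*} [AddCommGroup V] [Module ℚ V]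

theorem isProj_fix {p : ℕ} (hp : p ≠ 0) {x : Module.End ℚ V} (hx : x ^ p = 1) :
    LinearMap.IsProj (fix x) (((p : ℚ)⁻¹) • nr x p) := by
  have hp' : (p : ℚ) ≠ 0 := by exact_mod_cast hp
  constructor
  · intro v
    exact Submodule.smul_mem _ _ (nr_mem_fix hx v)
  · intro v hv
    rw [LinearMap.smul_apply, nr_fix (mem_fix.1 hv), smul_smul, inv_mul_cancel₀ hp', one_smul]

theorem trace_nr [FiniteDimensional ℚ V] {p : ℕ} (hp : p ≠ 0) {x : Module.End ℚ V} (hx : x ^ p = 1) :
    LinearMap.trace ℚ V (nr x p) = p * finrank ℚ (fix x) := by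
  have hp' : (p : ℚ) ≠ 0 := by exact_mod_cast hp
  have h := (isProj_fix hp hx).trace
  rw [map_smul, smul_eq_mul] at h
  rw [← h, ← mul_assoc, mul_inv_cancel₀ hp', one_mul]

theorem comm_nr {p : ℕ} {a b : Module.End ℚ V} (hab : Commute a b) : Commute (nr a p) (nr b p) :=
  Commute.sum_left _ _ _ fun _ _ => Commute.sum_right _ _ _ fun _ _ => hab.pow_pow _ _

theorem isProj_inf {p : ℕ} (hp : p ≠ 0) {a b : Module.End ℚ V} (ha : a ^ p = 1) (hb : b ^ p = 1) (hab : Commute a b) :
    LinearMap.IsProj (fix a ⊓ fix b) (((p : ℚ)⁻¹ * (p : ℚ)⁻¹) • (nr a p * nr b p)) := by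
  have hp' : (p : ℚ) ≠ 0 := by exact_mod_cast hp
  constructor
  · intro v
    refine ⟨?_, ?_⟩
    · rw [LinearMap.smul_apply, Module.End.mul_apply]
      exact Submodule.smul_mem _ _ (nr_mem_fix ha _)
    · rw [(comm_nr hab).eq, LinearMap.smul_apply, Module.End.mul_apply]
      exact Submodule.smul_mem _ _ (nr_mem_fix hb _)
  · rintro v ⟨h1, h2⟩
    rw [LinearMap.smul_apply, Module.End.mul_apply, nr_fix (mem_fix.1 h2), map_smul, nr_fix (mem_fix.1 h1), smul_smul,
      smul_smul, mul_assoc, mul_assoc, inv_mul_cancel_left₀ hp', inv_mul_cancel₀ hp', one_smul]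

theorem trace_mul [FiniteDimensional ℚ V] {p : ℕ} (hp : p ≠ 0) {a b : Module.End ℚ V} (ha : a ^ p = 1)
    (hb : b ^ p = 1) (hab : Commute a b) :
    LinearMap.trace ℚ V (nr a p * nr b p) = p * p * finrank ℚ (fix a ⊓ fix b : Submodule ℚ V) := by
  have hp' : (p : ℚ) ≠ 0 := by exact_mod_cast hp
  have h := (isProj_inf hp ha hb hab).trace
  rw [map_smul, smul_eq_mul] at h
  rw [← h]
  field_simp

/-- **The dimension formula.** -/
theorem sum_fix [FiniteDimensional ℚ V] {p : ℕ} (hp : p.Prime) {a b : Module.End ℚ V} (ha : a ^ p = 1)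
    (hb : b ^ p = 1) (hab : Commute a b) :
    finrank ℚ (fix b) + ∑ m ∈ Finset.range p, finrank ℚ (fix (a * b ^ m)) =
      finrank ℚ V + p * finrank ℚ (fix a ⊓ fix b : Submodule ℚ V) := by
  have hp' : (p : ℚ) ≠ 0 := by exact_mod_cast hp.ne_zero
  have h := congrArg (LinearMap.trace ℚ V) (nm_identity hp hb hab)
  rw [map_sum, map_add, map_smul, LinearMap.trace_one, sub_mul, one_mul, map_sub, trace_mul hp.ne_zero ha hb hab,
    trace_nr hp.ne_zero hb, Finset.sum_congr rfl fun m _ => trace_nr hp.ne_zero (x := a * b ^ m) (by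
      rw [(hab.pow_right m).mul_pow, ha, one_mul, ← pow_mul, mul_comm, pow_mul, hb, one_pow]), ← Finset.mul_sum,
    smul_eq_mul] at h
  have h2 : (p : ℚ) * (((finrank ℚ (fix b) + ∑ m ∈ Finset.range p, finrank ℚ (fix (a * b ^ m)) : ℕ)) : ℚ) =
      p * ((finrank ℚ V + p * finrank ℚ (fix a ⊓ fix b : Submodule ℚ V) : ℕ) : ℚ) := by
    push_cast
    linear_combination h
  exact_mod_cast mul_left_cancel₀ hp' h2

end lin

/-! ### `Co0` -/

theorem fd_conj (g a : Co0) : fd (g * a * g⁻¹) = fd a := by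
  unfold fd
  have h1 : rep (g * a * g⁻¹) = rep g * rep a * rep g⁻¹ := by rw [map_mul, map_mul]
  have e1 : rep g * rep g⁻¹ = 1 := by rw [← map_mul, mul_inv_cancel, map_one]
  have e2 : rep g⁻¹ * rep g = 1 := by rw [← map_mul, inv_mul_cancel, map_one]
  have h2 : (fix (rep a)).map (rep g) = fix (rep (g * a * g⁻¹)) := by
    ext v
    rw [Submodule.mem_map, mem_fix]
    constructor
    · rintro ⟨w, hw, rfl⟩
      rw [mem_fix] at hw
      have h3 : rep (g * a * g⁻¹) * rep g = rep g * rep a := by rw [h1, mul_assoc, e2, mul_one]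
      rw [← Module.End.mul_apply, h3, Module.End.mul_apply, hw]
    · intro hv
      refine ⟨rep g⁻¹ v, ?_, ?_⟩
      · rw [mem_fix]
        have h3 : rep a * rep g⁻¹ = rep g⁻¹ * rep (g * a * g⁻¹) := by
          rw [h1, ← mul_assoc, ← mul_assoc, e2, one_mul]
        rw [← Module.End.mul_apply, h3, Module.End.mul_apply, hv]
      · rw [← Module.End.mul_apply, e1, Module.End.one_apply]
  rw [← h2]
  have hinj : Function.Injective (rep g) := by
    intro v w h
    have h3 := congrArg (rep g⁻¹) h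
    rwa [← Module.End.mul_apply, ← Module.End.mul_apply, e2, Module.End.one_apply, Module.End.one_apply] at h3
  exact (Submodule.equivMapOfInjective (rep g) hinj _).finrank_eq.symm

theorem fix_zpowers {x y : Co0} (h : y ∈ zpowers x) (hx : IsOfFinOrder x) : fix (rep x) ≤ fix (rep y) := by
  obtain ⟨k, rfl⟩ := hx.mem_powers_iff_mem_zpowers.2 h
  intro v hv
  rw [map_pow]
  exact mem_fix.2 (CpAutCoFive.pow_fix (mem_fix.1 hv) k)

theorem fd_of_zpowers {x y : Co0} {p : ℕ} (hp : p.Prime) (hx : orderOf x = p) (hy : orderOf y = p)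
    (h : y ∈ zpowers x) : fd y = fd x := by
  have hfx : IsOfFinOrder x := orderOf_pos_iff.1 (by rw [hx]; exact hp.pos)
  have hfy : IsOfFinOrder y := orderOf_pos_iff.1 (by rw [hy]; exact hp.pos)
  have h1 : zpowers y = zpowers x := by
    have : Finite (zpowers x) := Nat.finite_of_card_ne_zero (by rw [Nat.card_zpowers, hx]; exact hp.ne_zero)
    apply Subgroup.eq_of_le_of_card_ge (zpowers_le.2 h)
    rw [Nat.card_zpowers, Nat.card_zpowers, hx, hy]
  unfold fd
  exact le_antisymm (Submodule.finrank_mono (fix_zpowers (by rw [h1]; exact mem_zpowers x) hfy))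
    (Submodule.finrank_mono (fix_zpowers h hfx))

/-- the dimension formula in `Co0` -/
theorem sum_fd {p : ℕ} (hp : p.Prime) {a b : Co0} (ha : a ^ p = 1) (hb : b ^ p = 1) (hab : Commute a b) :
    fd b + ∑ m ∈ Finset.range p, fd (a * b ^ m) =
      24 + p * finrank ℚ (fix (rep a) ⊓ fix (rep b) : Submodule ℚ Sp) := by
  have h := sum_fix hp (a := rep a) (b := rep b) (by rw [← map_pow, ha, map_one]) (by rw [← map_pow, hb, map_one])
    (comm_rep hab)
  rw [finrank_Sp] at h
  rw [← h]
  unfold fd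
  congr 1
  refine Finset.sum_congr rfl fun m _ => ?_
  rw [map_mul, map_pow]

theorem fd_pos {a : Co0} {v : leechLattice} (hv : v ≠ 0) (h : a • v = v) : 0 < fd a := by
  have : Nontrivial (fix (rep a)) := ⟨⟨⟨_, toV_mem h⟩, 0, fun h => toV_ne hv (congrArg Subtype.val h)⟩⟩
  exact Module.finrank_pos

/-- elements of order five with a fixed vector -/
theorem fd_five {a : Co0} (ha : orderOf a = 5) {v : leechLattice} (hv : v ≠ 0) (h : a • v = v) :
    fd a = 4 ∨ fd a = 8 := by
  obtain ⟨k, hk⟩ := PreUniqCo.Rat.prime_dvd (r := 5) (by norm_num) (rep_pow ha)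
  rw [finrank_Sp] at hk
  have h1 : fd a ≤ 8 := fd_le (Or.inl rfl) ha
  have h2 := fd_pos hv h
  have h3 : 24 = finrank ℚ (fix (rep a)) + (5 - 1) * k := hk
  have h4 : fd a = finrank ℚ (fix (rep a)) := rfl
  omega

/-- elements of order 25 -/
theorem fd_25 {g : Co0} (hg : orderOf g = 25) : fd (g ^ 5) = 4 := by
  have o2 : orderOf (g ^ 5) = 5 := by rw [orderOf_pow_of_dvd (by norm_num) (by rw [hg]; norm_num), hg]
  have h1 : Nat.totient 25 ∣ finrank ℚ (mv (rep (g ^ 5)) 5) := by
    refine dvd_finrank_sub (by norm_num) (rep_pow hg) (fun w hw => mv_inv (comm_rep ((Commute.refl _).pow_right 5)) hw) ?_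
    intro p hp hp49 v hv hv'
    have h2 : p = 5 := (Nat.prime_dvd_prime_iff_eq hp (by norm_num)).1 (hp.dvd_of_dvd_pow (show p ∣ 5 ^ 2 from hp49))
    subst h2
    refine eq_zero_of_fix (by norm_num) ?_ hv
    rw [map_pow]
    exact hv'
  have h2 := finrank_add (u := rep (g ^ 5)) (r := 5) (by norm_num) (rep_pow o2)
  rw [finrank_Sp] at h2
  have h3 : Nat.totient 25 = 20 := by decide
  rw [h3] at h1
  have h4 : fd (g ^ 5) ≤ 8 := fd_le (Or.inl rfl) o2
  have h5 : fd (g ^ 5) = finrank ℚ (fix (rep (g ^ 5))) := rfl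
  omega

/-- **Both kinds of elements of order five.** -/
theorem exists_four {T : Type*} [Group T] [Finite T] {f : T →* Co0} (hf : Function.Injective f) {v : leechLattice}
    (hv : v ≠ 0) (hfix : ∀ g, f g • v = v) (h25 : 25 ∣ Nat.card T) : ∃ y : T, orderOf y = 5 ∧ fd (f y) = 4 := by
  have h5 : Fact (Nat.Prime 5) := ⟨by norm_num⟩
  have ho : ∀ g : T, orderOf (f g) = orderOf g := orderOf_injective f hf
  by_contra hcon
  have hall : ∀ y : T, orderOf y = 5 → fd (f y) = 8 := by
    intro y hy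
    rcases fd_five ((ho y).trans hy) hv (hfix y) with h | h
    · exact absurd ⟨y, hy, h⟩ hcon
    · exact h
  obtain ⟨E, hE, -⟩ := Sylow.exists_subgroup_card_pow_prime_le 5 (n := 0) (m := 2) (G := T) h25 (⊥ : Subgroup T)
    (by simp) (by norm_num)
  rcases gens h5.out hE with ⟨g, -, hg⟩ | ⟨a, -, b, -, oa, ob, om, hab⟩
  · have o2 : orderOf (g ^ 5) = 5 := by
      rw [orderOf_pow_of_dvd (by norm_num) (by rw [hg]; norm_num), hg]
      norm_num
    have h1 := fd_25 (g := f g) (by rw [ho, hg]; norm_num)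
    rw [← map_pow, hall _ o2] at h1
    omega
  · have h1 := sum_fd (p := 5) (by norm_num) (a := f a) (b := f b) (by rw [← map_pow, ← oa, pow_orderOf_eq_one, map_one])
      (by rw [← map_pow, ← ob, pow_orderOf_eq_one, map_one]) (hab.map f)
    have h2 : ∀ m ∈ Finset.range 5, fd (f a * f b ^ m) = 8 := by
      intro m _
      rw [← map_pow, ← map_mul]
      exact hall _ (om m)
    rw [Finset.sum_congr rfl h2, hall b ob, Finset.sum_const, Finset.card_range, smul_eq_mul] at h1
    omega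

end Cfsg.Agent.H149.Der
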