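import Cfsg.Agent.H149.Der.CoDim
import Cfsg.Agent.H149.Sp.CopCoMain
import Cfsg.Agent.H419.LeechFix
import Cfsg.Agent.H870.Der.CoTwo
import Cfsg.Agent.S0401

/-!
# Elements of `Co2` and `Co3` (helper149)

* `five2`, `five3` : an element of order five with `8`-dimensional fixed space
* `exists21` : an element of order 21 of `Co3`
-/

set_option autoImplicit false

namespace Cfsg.Agent.H149.Der

open Cfsg Module Subgroup
open Cfsg.Agent.H149.Sp (fd)
open Cfsg.Agent.H149.Sp.CopCo (f2 f3 f2_inj f3_inj f2_fix f3_fix)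
open Cfsg.Agent.SporadicA.GolayBase Cfsg.Agent.SporadicA.Co0Mono Cfsg.Agent.Leech.Basic
open Cfsg.Agent.SporadicA.GolayPerm (papp isPerm isAut)
open Cfsg.Agent.J4Type.CocodeMask (mk isTab_mk IsTab)
open Cfsg.Agent.H180.KMathieu (ordOk orderOf_tab)
open Cfsg.Agent.H870.Der.CoTwo (orderOf_perm)
open Cfsg.Agent.Co2Type.Mono (tr8)

def tab5 : ℕ := 956772588869679268403078723843240384
def tab21 : ℕ := 21680731282907202230373644759713097

theorem ok5 : (isPerm tab5 && isAut tab5) = true := by decide +kernel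
theorem ok21 : (isPerm tab21 && isAut tab21) = true := by decide +kernel

theorem order5 : orderOf (mk tab5 ok5) = 5 := orderOf_tab (isTab_mk _ _) (by decide +kernel)
theorem order21 : orderOf (mk tab21 ok21) = 21 := orderOf_tab (isTab_mk _ _) (by decide +kernel)

theorem card_fixed : Nat.card (MulAction.fixedBy GolayPt (mk tab5 ok5)) = 4 := by
  classical
  have h : ∀ p : GolayPt, p ∈ MulAction.fixedBy GolayPt (mk tab5 ok5) ↔ papp tab5 (idx p) = idx p := by
    intro p
    rw [MulAction.mem_fixedBy]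
    have h1 := isTab_mk tab5 ok5 p
    constructor
    · intro h2
      rw [← h1]
      exact congrArg idx h2
    · intro h2
      rw [← h1] at h2
      exact idx_injective h2
  rw [Nat.card_eq_fintype_card, Fintype.card_subtype]
  rw [Finset.filter_congr fun p _ => h p]
  decide +kernel

theorem fd_perm5 : fd (permCo0 (mk tab5 ok5)) = 8 := by
  have ho : orderOf (permCo0 (mk tab5 ok5)) = 5 := orderOf_perm order5
  have ht : tr8 (permCo0 (mk tab5 ok5)) = 32 := by
    rw [H419.LeechFix.tr8_perm, card_fixed]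
    norm_num
  rcases CoFive.Class.main ho with h | h | h
  · obtain ⟨c, hc⟩ := isConj_iff.1 h
    rw [← fd_conj c, hc]
    exact CoFive.Dims.finrank_r8
  · rw [CoFive.Dims.tr8_isConj h, CoFive.Dims.tr8_r4] at ht
    norm_num at ht
  · rw [CoFive.Dims.tr8_isConj h, CoFive.Dims.tr8_r0] at ht
    norm_num at ht

theorem fix_none : ((mk tab5 ok5 : M24) : Equiv.Perm GolayPt) none = none :=
  idx_injective ((isTab_mk tab5 ok5 none).trans (by decide +kernel))

theorem fix_zero : ((mk tab5 ok5 : M24) : Equiv.Perm GolayPt) (some 0) = some 0 :=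
  idx_injective ((isTab_mk tab5 ok5 (some 0)).trans (by decide +kernel))

theorem symm_iff {g : M24} {q : GolayPt} (h : (g : Equiv.Perm GolayPt) q = q) (i : GolayPt) :
    (g : Equiv.Perm GolayPt).symm i = q ↔ i = q := by
  rw [Equiv.symm_apply_eq, h]

theorem perm5_V : permCo0 (mk tab5 ok5) • Spor.leechV = Spor.leechV := by
  apply Subtype.ext
  rw [permCo0_smul]
  funext i
  show Spor.vecV (((mk tab5 ok5 : M24) : Equiv.Perm GolayPt).symm i) = Spor.vecV i
  unfold Spor.vecV
  simp only [symm_iff fix_none]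

theorem perm5_U : permCo0 (mk tab5 ok5) • Spor.leechU = Spor.leechU := by
  apply Subtype.ext
  rw [permCo0_smul]
  funext i
  show Spor.vecU (((mk tab5 ok5 : M24) : Equiv.Perm GolayPt).symm i) = Spor.vecU i
  unfold Spor.vecU
  simp only [symm_iff fix_none, symm_iff fix_zero]

theorem five2 : ∃ x : Spor.Co2, orderOf x = 5 ∧ fd (f2 x) = 8 := by
  refine ⟨⟨(permCo0 (mk tab5 ok5)).1, (permCo0 (mk tab5 ok5)).2, perm5_U⟩, ?_, fd_perm5⟩
  rw [← orderOf_injective f2 f2_inj]
  exact orderOf_perm order5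

theorem five3 : ∃ x : Spor.Co3, orderOf x = 5 ∧ fd (f3 x) = 8 := by
  refine ⟨⟨(permCo0 (mk tab5 ok5)).1, (permCo0 (mk tab5 ok5)).2, perm5_V⟩, ?_, fd_perm5⟩
  rw [← orderOf_injective f3 f3_inj]
  exact orderOf_perm order5

/-! ### An element of order 21 of `Co3` -/

/-- the orbit of length three -/
def inO (p : GolayPt) : Bool := Nat.beq (idx p) 1 || Nat.beq (idx p) 10 || Nat.beq (idx p) 11

/-- the vector `(3³, (-1)²¹)` -/
def vec3 (p : GolayPt) : ℤ := if inO p then 3 else -1

theorem vec3_mem : vec3 ∈ leechSet :=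
  Spor.mem_leechSet_of_const_mod_four vec3 1 (-1) (by decide) (by decide) (by decide)

def v3 : leechLattice := ⟨vec3, AddSubgroup.subset_closure vec3_mem⟩

theorem norm_v3 : sqNorm ((v3 : leechLattice) : GolayPt → ℤ) = 48 := by
  show sqNorm vec3 = 48
  decide +kernel

theorem inO_papp : ((List.range 24).all fun i => inO (pt i) == inO (pt (papp tab21 i))) = true := by decide +kernel

theorem perm21_v3 : permCo0 (mk tab21 ok21) • v3 = v3 := by
  apply Subtype.ext
  rw [permCo0_smul]
  funext i
  show vec3 (((mk tab21 ok21 : M24) : Equiv.Perm GolayPt).symm i) = vec3 i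
  set j := ((mk tab21 ok21 : M24) : Equiv.Perm GolayPt).symm i with hj
  have hi : i = ((mk tab21 ok21 : M24) : Equiv.Perm GolayPt) j := by rw [hj, Equiv.apply_symm_apply]
  have h1 := isTab_mk tab21 ok21 j
  have h2 := List.all_eq_true.1 inO_papp (idx j) (List.mem_range.2 (idx_lt j))
  rw [← h1, pt_idx, pt_idx, ← hi] at h2
  unfold vec3
  rw [show inO j = inO i by simpa using h2]

/-- an element of `Co0` fixing a vector of norm 48 -/
theorem exists_of_fix3 {g : Co0} {v : leechLattice} (hv : sqNorm (v : GolayPt → ℤ) = 48) (hg : g • v = v) {n : ℕ}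
    (hn : orderOf g = n) : ∃ x : Spor.Co3, orderOf x = n := by
  have hu : sqNorm ((Spor.leechV : leechLattice) : GolayPt → ℤ) = 48 := by
    show sqNorm Spor.vecV = 48
    decide +kernel
  obtain ⟨h, hh⟩ := S0401.result v Spor.leechV hv hu
  have hfix : (h * g * h⁻¹) • Spor.leechV = Spor.leechV := by
    rw [← hh, mul_smul, mul_smul, inv_smul_smul, hg]
  have ho : orderOf (h * g * h⁻¹) = n := by
    rw [← hn]
    exact orderOf_injective (MulAut.conj h).toMonoidHom (MulAut.conj h).injective g
  refine ⟨⟨(h * g * h⁻¹).1, (h * g * h⁻¹).2, hfix⟩, ?_⟩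
  rw [← ho]
  exact (orderOf_injective f3 f3_inj _).symm

theorem exists21 : ∃ x : Spor.Co3, orderOf x = 21 := exists_of_fix3 norm_v3 perm21_v3 (orderOf_perm order21)

end Cfsg.Agent.H149.Der
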