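import Cfsg.Agent.H149.Der.CoCom
import Cfsg.Agent.H149.Der.CoDim
import Cfsg.Agent.H149.Sp.CopCoMain
import Cfsg.Agent.H813.CoSevenMain
import Cfsg.Agent.H870.Der.CoOne
import Cfsg.Agent.H870.Der.CoTwo
import Cfsg.Agent.S0399

/-!
# S3502: the strong row of `Co1` (helper149)

`A₁₄`, `A₁₅`, `A₁₆` are not at the top: two disjoint 7-cycles `σ, τ` commute with elements of order five, so the lifts have
no fixed vectors; the groups `⟨σ τ ^ m⟩`, `m = 1, 2, 4` and `m = 3, 5, 6`, are conjugate; the dimension formula gives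
`3 (u + v) = 24` with `u, v ∈ {0, 6}`.
-/

set_option autoImplicit false

namespace Cfsg.Agent.H149.Der.One

open Subgroup Cfsg Equiv
open Cfsg.Agent.OrdDiv Cfsg.Agent.H278.El Cfsg.Agent.H257.El Cfsg.Agent.H439.Der
open Cfsg.Agent.H149.Sp (fd P5 fr_mk_eq co1_not_comm fd_le)
open Cfsg.Agent.H149.Sp.CopCo (finite_co1 exists_lift card_lift ne_five rep_pow comm_rep totient_dvd mv_le_fix_of_inf fix_le_five)
open Cfsg.Agent.LThreeMB (fr fr_conj)
open Cfsg.Spor (Co1)

/-! ### Permutations -/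

/-- two disjoint 7-cycles -/
def Dat (A : Type*) [Group A] : Prop :=
  ∃ σ τ c z w : A, orderOf σ = 7 ∧ orderOf τ = 7 ∧ Commute τ σ ∧ (∀ m : ℕ, σ * τ ^ m ≠ 1) ∧ c * σ = σ * c ∧
    c * τ = τ ^ 2 * c ∧ orderOf z = 5 ∧ Commute z σ ∧ orderOf w = 5 ∧ Commute w τ

theorem dat14 : Dat (alternatingGroup (Fin 14)) := by
  let σ : alternatingGroup (Fin 14) := ⟨c[0, 1, 2, 3, 4, 5, 6], Perm.mem_alternatingGroup.2 (by decide +kernel)⟩
  let τ : alternatingGroup (Fin 14) := ⟨c[7, 8, 9, 10, 11, 12, 13], Perm.mem_alternatingGroup.2 (by decide +kernel)⟩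
  let c : alternatingGroup (Fin 14) := ⟨c[8, 9, 11] * c[10, 13, 12], Perm.mem_alternatingGroup.2 (by decide +kernel)⟩
  let z : alternatingGroup (Fin 14) := ⟨c[7, 8, 9, 10, 11], Perm.mem_alternatingGroup.2 (by decide +kernel)⟩
  let w : alternatingGroup (Fin 14) := ⟨c[0, 1, 2, 3, 4], Perm.mem_alternatingGroup.2 (by decide +kernel)⟩
  refine ⟨σ, τ, c, z, w, order_of (by norm_num) (Subtype.ext (by decide +kernel)) (fun h => ?_),
    order_of (by norm_num) (Subtype.ext (by decide +kernel)) (fun h => ?_), Subtype.ext (by decide +kernel),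
    fun m h => ?_, Subtype.ext (by decide +kernel), Subtype.ext (by decide +kernel),
    order_of (by norm_num) (Subtype.ext (by decide +kernel)) (fun h => ?_), Subtype.ext (by decide +kernel),
    order_of (by norm_num) (Subtype.ext (by decide +kernel)) (fun h => ?_), Subtype.ext (by decide +kernel)⟩
  · have h1 : (σ : Perm (Fin 14)) 0 = 0 := by rw [h]; rfl
    revert h1
    decide +kernel
  · have h1 : (τ : Perm (Fin 14)) 7 = 7 := by rw [h]; rfl
    revert h1
    decide +kernel
  · have h2 : ((τ : Perm (Fin 14)) ^ m) 0 = 0 :=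
      Perm.zpow_apply_eq_self_of_apply_eq_self (f := (τ : Perm (Fin 14))) (by decide +kernel) m
    have h1 : (σ : Perm (Fin 14)) (((τ : Perm (Fin 14)) ^ m) 0) = 0 := by
      have h3 := congrArg (fun g : alternatingGroup (Fin 14) => (g : Perm (Fin 14)) 0) h
      exact h3
    rw [h2] at h1
    revert h1
    decide +kernel
  · have h1 : (z : Perm (Fin 14)) 7 = 7 := by rw [h]; rfl
    revert h1
    decide +kernel
  · have h1 : (w : Perm (Fin 14)) 0 = 0 := by rw [h]; rfl
    revert h1
    decide +kernel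

theorem dat15 : Dat (alternatingGroup (Fin 15)) := by
  let σ : alternatingGroup (Fin 15) := ⟨c[0, 1, 2, 3, 4, 5, 6], Perm.mem_alternatingGroup.2 (by decide +kernel)⟩
  let τ : alternatingGroup (Fin 15) := ⟨c[7, 8, 9, 10, 11, 12, 13], Perm.mem_alternatingGroup.2 (by decide +kernel)⟩
  let c : alternatingGroup (Fin 15) := ⟨c[8, 9, 11] * c[10, 13, 12], Perm.mem_alternatingGroup.2 (by decide +kernel)⟩
  let z : alternatingGroup (Fin 15) := ⟨c[7, 8, 9, 10, 11], Perm.mem_alternatingGroup.2 (by decide +kernel)⟩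
  let w : alternatingGroup (Fin 15) := ⟨c[0, 1, 2, 3, 4], Perm.mem_alternatingGroup.2 (by decide +kernel)⟩
  refine ⟨σ, τ, c, z, w, order_of (by norm_num) (Subtype.ext (by decide +kernel)) (fun h => ?_),
    order_of (by norm_num) (Subtype.ext (by decide +kernel)) (fun h => ?_), Subtype.ext (by decide +kernel),
    fun m h => ?_, Subtype.ext (by decide +kernel), Subtype.ext (by decide +kernel),
    order_of (by norm_num) (Subtype.ext (by decide +kernel)) (fun h => ?_), Subtype.ext (by decide +kernel),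
    order_of (by norm_num) (Subtype.ext (by decide +kernel)) (fun h => ?_), Subtype.ext (by decide +kernel)⟩
  · have h1 : (σ : Perm (Fin 15)) 0 = 0 := by rw [h]; rfl
    revert h1
    decide +kernel
  · have h1 : (τ : Perm (Fin 15)) 7 = 7 := by rw [h]; rfl
    revert h1
    decide +kernel
  · have h2 : ((τ : Perm (Fin 15)) ^ m) 0 = 0 :=
      Perm.zpow_apply_eq_self_of_apply_eq_self (f := (τ : Perm (Fin 15))) (by decide +kernel) m
    have h1 : (σ : Perm (Fin 15)) (((τ : Perm (Fin 15)) ^ m) 0) = 0 := by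
      have h3 := congrArg (fun g : alternatingGroup (Fin 15) => (g : Perm (Fin 15)) 0) h
      exact h3
    rw [h2] at h1
    revert h1
    decide +kernel
  · have h1 : (z : Perm (Fin 15)) 7 = 7 := by rw [h]; rfl
    revert h1
    decide +kernel
  · have h1 : (w : Perm (Fin 15)) 0 = 0 := by rw [h]; rfl
    revert h1
    decide +kernel

theorem dat16 : Dat (alternatingGroup (Fin 16)) := by
  let σ : alternatingGroup (Fin 16) := ⟨c[0, 1, 2, 3, 4, 5, 6], Perm.mem_alternatingGroup.2 (by decide +kernel)⟩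
  let τ : alternatingGroup (Fin 16) := ⟨c[7, 8, 9, 10, 11, 12, 13], Perm.mem_alternatingGroup.2 (by decide +kernel)⟩
  let c : alternatingGroup (Fin 16) := ⟨c[8, 9, 11] * c[10, 13, 12], Perm.mem_alternatingGroup.2 (by decide +kernel)⟩
  let z : alternatingGroup (Fin 16) := ⟨c[7, 8, 9, 10, 11], Perm.mem_alternatingGroup.2 (by decide +kernel)⟩
  let w : alternatingGroup (Fin 16) := ⟨c[0, 1, 2, 3, 4], Perm.mem_alternatingGroup.2 (by decide +kernel)⟩
  refine ⟨σ, τ, c, z, w, order_of (by norm_num) (Subtype.ext (by decide +kernel)) (fun h => ?_),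
    order_of (by norm_num) (Subtype.ext (by decide +kernel)) (fun h => ?_), Subtype.ext (by decide +kernel),
    fun m h => ?_, Subtype.ext (by decide +kernel), Subtype.ext (by decide +kernel),
    order_of (by norm_num) (Subtype.ext (by decide +kernel)) (fun h => ?_), Subtype.ext (by decide +kernel),
    order_of (by norm_num) (Subtype.ext (by decide +kernel)) (fun h => ?_), Subtype.ext (by decide +kernel)⟩
  · have h1 : (σ : Perm (Fin 16)) 0 = 0 := by rw [h]; rfl
    revert h1
    decide +kernel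
  · have h1 : (τ : Perm (Fin 16)) 7 = 7 := by rw [h]; rfl
    revert h1
    decide +kernel
  · have h2 : ((τ : Perm (Fin 16)) ^ m) 0 = 0 :=
      Perm.zpow_apply_eq_self_of_apply_eq_self (f := (τ : Perm (Fin 16))) (by decide +kernel) m
    have h1 : (σ : Perm (Fin 16)) (((τ : Perm (Fin 16)) ^ m) 0) = 0 := by
      have h3 := congrArg (fun g : alternatingGroup (Fin 16) => (g : Perm (Fin 16)) 0) h
      exact h3
    rw [h2] at h1
    revert h1
    decide +kernel
  · have h1 : (z : Perm (Fin 16)) 7 = 7 := by rw [h]; rfl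
    revert h1
    decide +kernel
  · have h1 : (w : Perm (Fin 16)) 0 = 0 := by rw [h]; rfl
    revert h1
    decide +kernel

/-! ### The Leech lattice -/

/-- an element of order seven commuting with an element of order five has no fixed vector -/
theorem fd_zero {x z : Co0} (hx : orderOf x = 7) (hz : orderOf z = 5) (hc : Commute x z) : fd x = 0 := by
  obtain ⟨k, hk⟩ := PreUniqCo.Rat.prime_dvd (r := 7) (by norm_num) (rep_pow hx)
  rw [H149.Sp.finrank_Sp] at hk
  have h6 : fd x ≤ 6 := fd_le (Or.inr (Or.inl rfl)) hx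
  have h0 : fd x = Module.finrank ℚ (SigZeroCo2.Rank.fix (SigZeroCo2.Lin.rep x)) := rfl
  by_contra hne
  have h18 := CpAutCoFive.finrank_add (u := SigZeroCo2.Lin.rep x) (r := 7) (by norm_num) (rep_pow hx)
  rw [H149.Sp.finrank_Sp] at h18
  have h1 := totient_dvd (m := 7) (n := 5) (p := 7) (q := 5) (by norm_num) (by norm_num) (by norm_num)
    (fun l hl hd => (Nat.prime_dvd_prime_iff_eq hl (by norm_num)).1 hd)
    (fun l hl hd => (Nat.prime_dvd_prime_iff_eq hl (by norm_num)).1 hd)
    (rep_pow hx) (rep_pow hz) (comm_rep hc) (x := SigZeroCo2.Lin.rep x) (y := SigZeroCo2.Lin.rep z) (by norm_num)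
    (by norm_num) (by norm_num) (by norm_num)
  have h3 : Nat.totient (7 * 5) = 24 := by decide
  rw [h3] at h1
  have h4 : Module.finrank ℚ (CpAutCoFive.mv (SigZeroCo2.Lin.rep x) 7 ⊓ CpAutCoFive.mv (SigZeroCo2.Lin.rep z) 5 :
      Submodule ℚ SigZeroCo2.Lin.Sp) ≤ Module.finrank ℚ (CpAutCoFive.mv (SigZeroCo2.Lin.rep x) 7) :=
    Submodule.finrank_mono inf_le_left
  have h5 := mv_le_fix_of_inf (p := 7) (q := 5) (by norm_num) (rep_pow hz) (comm_rep hc)
    (Submodule.finrank_eq_zero.1 (by omega))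
  have h7 := Submodule.finrank_mono h5
  have := fix_le_five hz
  omega

theorem fd_cases {x : Co0} (hx : orderOf x = 7) : fd x = 0 ∨ fd x = 6 := by
  obtain ⟨k, hk⟩ := PreUniqCo.Rat.prime_dvd (r := 7) (by norm_num) (rep_pow hx)
  rw [H149.Sp.finrank_Sp] at hk
  have h6 : fd x ≤ 6 := fd_le (Or.inr (Or.inl rfl)) hx
  have h0 : fd x = Module.finrank ℚ (SigZeroCo2.Rank.fix (SigZeroCo2.Lin.rep x)) := rfl
  omega

/-- **the contradiction in `Co1`** -/
theorem false_seven {a b z w : Co1} (ha : orderOf a = 7) (hb : orderOf b = 7) (hab : Commute b a)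
    (hne : ∀ m : ℕ, a * b ^ m ≠ 1) (hz : orderOf z = 5) (hza : Commute z a) (hw : orderOf w = 5) (hwb : Commute w b)
    (hconj : ∀ m : ℕ, ∃ g : Co1, g * (a * b ^ m) * g⁻¹ = a * b ^ (2 * m)) : False := by
  obtain ⟨A, rfl, hA⟩ := exists_lift (by norm_num) (by norm_num) ha
  obtain ⟨B, rfl, hB⟩ := exists_lift (by norm_num) (by norm_num) hb
  obtain ⟨Z, rfl, hZ⟩ := exists_lift (by norm_num) (by norm_num) hz
  obtain ⟨W, rfl, hW⟩ := exists_lift (by norm_num) (by norm_num) hw
  have hA7 : A ^ 7 = 1 := by rw [← hA, pow_orderOf_eq_one]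
  have hB7 : B ^ 7 = 1 := by rw [← hB, pow_orderOf_eq_one]
  have hBA : Commute A B := LThreeBX.NoSeven.comm_of_mk (n := 7) (by decide) hA7 (a := A) (b := B) hab.symm.eq
  have hZA : Commute A Z := LThreeBX.NoSeven.comm_of_mk (n := 7) (by decide) hA7 (a := A) (b := Z) hza.symm.eq
  have hWB : Commute B W := LThreeBX.NoSeven.comm_of_mk (n := 7) (by decide) hB7 (a := B) (b := W) hwb.symm.eq
  have h7 : ∀ m : ℕ, (A * B ^ m) ^ 7 = 1 := by
    intro m
    rw [(hBA.pow_right m).mul_pow, hA7, one_mul, ← pow_mul, mul_comm, pow_mul, hB7, one_pow]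
  have ho : ∀ m : ℕ, orderOf (A * B ^ m) = 7 := by
    intro m
    refine order_of (by norm_num) (h7 m) fun h => hne m ?_
    have h1 := congrArg (fun g : Co0 => (QuotientGroup.mk g : Co1)) h
    exact h1
  have hfr : ∀ m : ℕ, fr ((QuotientGroup.mk A : Co1) * (QuotientGroup.mk B : Co1) ^ m) = 2 ^ fd (A * B ^ m) := fun m =>
    fr_mk_eq (n := 7) (by decide) (h7 m)
  have heq : ∀ m : ℕ, fd (A * B ^ m) = fd (A * B ^ (2 * m)) := by
    intro m
    obtain ⟨g, hg⟩ := hconj m
    have h1 := fr_conj g ((QuotientGroup.mk A : Co1) * (QuotientGroup.mk B : Co1) ^ m)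
    rw [hg, hfr, hfr] at h1
    exact (Nat.pow_right_injective le_rfl h1).symm
  have hmod : ∀ m : ℕ, B ^ (m + 7) = B ^ m := fun m => by rw [pow_add, hB7, mul_one]
  have h0A := fd_zero hA hZ hZA
  have h0B := fd_zero hB hW hWB
  have hinf : Module.finrank ℚ (SigZeroCo2.Rank.fix (SigZeroCo2.Lin.rep A) ⊓ SigZeroCo2.Rank.fix (SigZeroCo2.Lin.rep B) :
      Submodule ℚ SigZeroCo2.Lin.Sp) = 0 := by
    have h1 : Module.finrank ℚ (SigZeroCo2.Rank.fix (SigZeroCo2.Lin.rep A) ⊓ SigZeroCo2.Rank.fix (SigZeroCo2.Lin.rep B) :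
      Submodule ℚ SigZeroCo2.Lin.Sp) ≤ fd A := Submodule.finrank_mono inf_le_left
    omega
  have hsum := sum_fd (p := 7) (by norm_num) hA7 hB7 hBA
  rw [hinf, h0B, Finset.sum_range_succ, Finset.sum_range_succ, Finset.sum_range_succ, Finset.sum_range_succ,
    Finset.sum_range_succ, Finset.sum_range_succ, Finset.sum_range_one, pow_zero, mul_one, h0A] at hsum
  have e1 := heq 1
  have e2 := heq 2
  have e3 := heq 3
  have e6 := heq 6
  rw [show 2 * 6 = 5 + 7 by norm_num, hmod] at e6
  norm_num at e1 e2 e3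
  have c1 := fd_cases (ho 1)
  have c3 := fd_cases (ho 3)
  rw [pow_one] at c1 hsum
  omega

/-! ### Lifting -/

section lift

variable {R : Type*} [Group R] [Finite R]

theorem lift_comm (O : Subgroup R) [hO : O.Normal] {p : ℕ} (hp : p.Prime) (hpO : ¬ p ∣ Nat.card O) {x : R}
    (hx : orderOf x = p) {c : R ⧸ O} (hc : Commute c (QuotientGroup.mk' O x)) :
    ∃ g : R, QuotientGroup.mk' O g = c ∧ Commute g x := by
  obtain ⟨g, rfl⟩ := QuotientGroup.mk'_surjective O c
  have h1 : QuotientGroup.mk' O (g * x * g⁻¹) = QuotientGroup.mk' O x := by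
    rw [map_mul, map_mul, map_inv, hc.eq, mul_inv_cancel_right]
  obtain ⟨o, ho, hox⟩ := lift_conj O hp hpO (x := g * x * g⁻¹) (y := x)
    (by rw [← hx]; exact H938.Sax.orderOf_mulEquiv (MulAut.conj g) x) hx h1
  refine ⟨o * g, ?_, ?_⟩
  · rw [map_mul]
    have : QuotientGroup.mk' O o = 1 := (QuotientGroup.eq_one_iff o).2 ho
    rw [this, one_mul]
  · show o * g * x = x * (o * g)
    calc o * g * x = (o * (g * x * g⁻¹) * o⁻¹) * (o * g) := by group
      _ = _ := by rw [hox]

omit [Finite R] in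
theorem exists_pow_lift (O : Subgroup R) [hO : O.Normal] {p : ℕ} {y : R} (hq : orderOf (QuotientGroup.mk' O y) = p)
    (hpO : p.Coprime (Nat.card O)) : ∃ n : ℕ, QuotientGroup.mk' O (y ^ n) = QuotientGroup.mk' O y ∧ orderOf (y ^ n) = p := by
  have h1 : (y ^ p) ^ Nat.card O = 1 := by
    have h2 : y ^ p ∈ O := by
      rw [← QuotientGroup.eq_one_iff (N := O)]
      change QuotientGroup.mk' O (y ^ p) = 1
      rw [map_pow, ← hq, pow_orderOf_eq_one]
    have h3 := pow_card_eq_one' (x := (⟨y ^ p, h2⟩ : O))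
    exact congrArg Subtype.val h3
  obtain ⟨k, hk⟩ := exists_pow_eq_self_of_coprime (x := QuotientGroup.mk' O y) (n := Nat.card O)
    (by rw [hq]; exact hpO.symm)
  refine ⟨Nat.card O * k, by rw [pow_mul, map_pow, map_pow, hk], ?_⟩
  rw [pow_mul]
  have h4 : ((y ^ Nat.card O) ^ k) ^ p = 1 := by
    rw [← pow_mul, ← pow_mul, mul_comm k p, ← mul_assoc, mul_comm (Nat.card O) p, pow_mul, pow_mul, h1, one_pow]
  have h5 : orderOf ((y ^ Nat.card O) ^ k) ∣ p := orderOf_dvd_of_pow_eq_one h4
  have h6 : p ∣ orderOf ((y ^ Nat.card O) ^ k) := by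
    rw [← hq]
    nth_rw 1 [← hk]
    rw [← map_pow, ← map_pow]
    exact orderOf_map_dvd _ _
  exact Nat.dvd_antisymm h5 h6

end lift

/-- **`A₁₄`, `A₁₅`, `A₁₆` are not at the top.** -/
theorem false_of_dat {R : Subgroup Co1} {O : Subgroup R} [O.Normal] {N : Subgroup (R ⧸ O)} {A : Type*} [Group A]
    (e : N ≃* A) (h7 : ¬ 7 ∣ Nat.card O) (hA : Dat A) : False := by
  have := finite_co1
  have hp7 : Nat.Prime 7 := by norm_num
  obtain ⟨σ, τ, c, z, w, hσ, hτ, hτσ, hne, hcσ, hcτ, hz, hzσ, hw, hwτ⟩ := hA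
  -- the elements of the quotient
  let j : A →* R ⧸ O := N.subtype.comp e.symm.toMonoidHom
  have hj : Function.Injective j := (Subgroup.subtype_injective N).comp e.symm.injective
  have ho : ∀ g : A, orderOf (j g) = orderOf g := orderOf_injective j hj
  have hc7 : Nat.Coprime 7 (Nat.card O) := (Nat.Prime.coprime_iff_not_dvd hp7).2 h7
  obtain ⟨a, haσ, ha⟩ := exists_lift_prime O (q := j σ) ((ho σ).trans hσ) hc7
  obtain ⟨g, hgτ, hga⟩ := lift_comm O hp7 h7 ha (c := j τ) (by rw [haσ]; exact hτσ.map j)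
  obtain ⟨n, hn, hb⟩ := exists_pow_lift O (y := g) (p := 7) (by rw [hgτ, ho, hτ]) hc7
  set b := g ^ n with hbdef
  have hba : Commute b a := hga.pow_left n
  have hbτ : QuotientGroup.mk' O b = j τ := by rw [hn, hgτ]
  obtain ⟨z', hz', hza⟩ := lift_comm O hp7 h7 ha (c := j z) (by rw [haσ]; exact hzσ.map j)
  obtain ⟨w', hw', hwb⟩ := lift_comm O hp7 h7 hb (c := j w) (by rw [hbτ]; exact hwτ.map j)
  obtain ⟨kz, hkz⟩ := H257.El.exists_lift (QuotientGroup.mk' O) (z := z') (n := 5) (by rw [hz', ho, hz])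
  obtain ⟨kw, hkw⟩ := H257.El.exists_lift (QuotientGroup.mk' O) (z := w') (n := 5) (by rw [hw', ho, hw])
  have hmk : ∀ m : ℕ, QuotientGroup.mk' O (a * b ^ m) = j (σ * τ ^ m) := by
    intro m
    rw [map_mul, map_pow, haσ, hbτ, map_mul, map_pow]
  obtain ⟨c', hc'⟩ := QuotientGroup.mk'_surjective O (j c)
  have hne' : ∀ m : ℕ, a * b ^ m ≠ 1 := by
    intro m h
    have h1 := hmk m
    rw [h, map_one] at h1
    exact hne m (hj (by rw [← h1, map_one]))
  have ho7 : ∀ m : ℕ, orderOf (a * b ^ m) = 7 := by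
    intro m
    refine order_of hp7 ?_ (hne' m)
    rw [((hba.symm).pow_right m).mul_pow, ← pow_mul, mul_comm m 7, pow_mul, ← ha, pow_orderOf_eq_one, one_mul, ha, ← hb,
      pow_orderOf_eq_one, one_pow]
  refine false_seven (a := (a : Co1)) (b := b) (z := ((z' ^ kz : R) : Co1)) (w := ((w' ^ kw : R) : Co1))
    (by rw [Subgroup.orderOf_coe, ha]) (by rw [Subgroup.orderOf_coe, hb]) (congrArg Subtype.val hba.eq)
    (fun m h => hne' m (Subtype.ext h)) (by rw [Subgroup.orderOf_coe, hkz])
    (congrArg Subtype.val (hza.pow_left kz).eq) (by rw [Subgroup.orderOf_coe, hkw])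
    (congrArg Subtype.val (hwb.pow_left kw).eq) fun m => ?_
  -- conjugacy
  have hcm : c * (σ * τ ^ m) * c⁻¹ = σ * τ ^ (2 * m) := by
    have h1 : ∀ k : ℕ, c * τ ^ k = τ ^ (2 * k) * c := by
      intro k
      induction k with
      | zero => simp
      | succ k ih =>
        rw [pow_succ, ← mul_assoc, ih, mul_assoc, hcτ, ← mul_assoc, ← pow_add]
        congr 2
    rw [← mul_assoc, hcσ, mul_assoc σ c, h1, mul_assoc, mul_assoc, mul_inv_cancel, mul_one]
  have h1 : QuotientGroup.mk' O (c' * (a * b ^ m) * c'⁻¹) = QuotientGroup.mk' O (a * b ^ (2 * m)) := by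
    rw [map_mul, map_mul, map_inv, hc', hmk, hmk, ← map_mul, ← map_inv, ← map_mul, hcm]
  obtain ⟨o, -, hox⟩ := lift_conj O hp7 h7 (x := c' * (a * b ^ m) * c'⁻¹) (y := a * b ^ (2 * m))
    (by rw [← ho7 m]; exact H938.Sax.orderOf_mulEquiv (MulAut.conj c') _) (ho7 _) h1
  refine ⟨((o * c' : R) : Co1), ?_⟩
  have h2 : (o * c') * (a * b ^ m) * (o * c')⁻¹ = a * b ^ (2 * m) := by
    rw [← hox]
    group
  exact congrArg Subtype.val h2

/-! ### The row -/

open Cfsg.Agent.H870.Der.CoOne (l)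

theorem card_co1 : Nat.card Co1 = 4157776806543360000 := Cfsg.Agent.S0399.result.2

theorem valid1 : OrdDiv.valid l 4157776806543360000 = true := by decide +kernel

/-- an element of order seven with a fixed vector -/
noncomputable def y0 : Co0 := SporadicA.Co0Mono.permCo0 (J4Type.CocodeMask.mk H870.Der.CoTwo.P7 H870.Der.CoTwo.ok7)

theorem order_y0 : orderOf y0 = 7 := H870.Der.CoTwo.orderOf_perm
  (H180.KMathieu.orderOf_tab (J4Type.CocodeMask.isTab_mk _ _) (by decide +kernel))

theorem y0_fix : y0 • H870.Der.CoTwo.vB = H870.Der.CoTwo.vB :=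
  H870.Der.CoTwo.perm_smul_vec (J4Type.CocodeMask.isTab_mk _ _) (by decide +kernel) _

theorem vB_ne : H870.Der.CoTwo.vB ≠ 0 := by
  intro h
  have h1 := H870.Der.CoTwo.norm_vB
  rw [h] at h1
  revert h1
  decide +kernel

/-- **two classes of elements of order seven in `Co1`** -/
theorem exists_seven : ∃ x y : Co1, orderOf x = 7 ∧ orderOf y = 7 ∧ ∀ φ : Co1 ≃* Co1, φ y ∉ zpowers x := by
  have := finite_co1
  have hfin : Finite Co0 := Cfsg.Agent.CoOneType.FrameFix.finite_co0
  have hx : orderOf H813.CoSevenMain.pp = 7 := H813.CoSevenMain.order_pp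
  have hy : orderOf (QuotientGroup.mk y0 : Co1) = 7 := H149.Sp.orderOf_mk (by norm_num) (by norm_num) order_y0
  refine ⟨H813.CoSevenMain.pp, (QuotientGroup.mk y0 : Co1), hx, hy, two_of_centA hx hy fun h => ?_⟩
  have h5 : 5 ∣ Nat.card (centralizer ({H813.CoSevenMain.pp} : Set Co1)) := by
    have h1 := Subgroup.card_dvd_of_le H813.CoSevenMain.BB_le
    rw [H813.CoSevenMain.card_BB] at h1
    exact (show 5 ∣ 2520 by norm_num).trans h1
  rw [h] at h5
  have h6 := h5.trans (card_lift (x := y0) (n := 7) (by decide) (by rw [← order_y0, pow_orderOf_eq_one]))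
  have : Fact (Nat.Prime 5) := ⟨by norm_num⟩
  obtain ⟨z, hz⟩ := exists_prime_orderOf_dvd_card' (G := centralizer ({y0} : Set Co0)) 5 h6
  exact ne_five order_y0 vB_ne y0_fix (z := (z : Co0)) (by rw [Subgroup.orderOf_coe, hz])
    (show Commute y0 (z : Co0) from (mem_centralizer_singleton_iff.1 z.2).symm)

theorem surv_a : surv 4157776806543360000 l 23 [7 ^ 2] = [] := by decide +kernel
theorem surv_b : surv 4157776806543360000 l 23 [13 ^ 1] = [] := by decide +kernel
theorem surv_c : surv 4157776806543360000 l 13 [11 ^ 1, 7 ^ 2] = [.alt 14, .alt 15, .alt 16] := by decide +kernel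

theorem p23 : P5 23 := Or.inr (Or.inr (Or.inr (Or.inr rfl)))
theorem p13 : P5 13 := Or.inr (Or.inr (Or.inr (Or.inl rfl)))
theorem p11 : P5 11 := Or.inr (Or.inr (Or.inl rfl))
theorem p7 : P5 7 := Or.inr (Or.inl rfl)

/-- non-adjacent primes -/
theorem no1 {p q : ℕ} (hp : P5 p) (hq : P5 q) (hqp : q < p) (h57 : ¬ (q = 5 ∧ p = 7)) (z : Co1) : orderOf z ≠ p * q :=
  noOrd_of_noComm hp.prime hq.prime (fun _ _ hx hy h => co1_not_comm hq hp hqp h57 hy hx h.symm) z

theorem three_co1 (tab : OrderTable.{0}) (known : Known.{0}) {R : Subgroup Co1} (hR : R ≠ ⊤) : Three Co1 R := by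
  have hfin := finite_co1
  obtain ⟨x, y, hx, hy, hxy⟩ := exists_seven
  have hO : Nat.card (Cfsg.Out Co1) = 1 := S2069.result
  have hRn : Nat.card R ∣ 4157776806543360000 := by
    rw [← card_co1]
    exact Subgroup.card_subgroup_dvd_card R
  -- an element of order seven is missing
  have h7c : ¬ 49 ∣ Nat.card R → ∃ w : Co1, orderOf w = 7 ∧ ∀ φ : Co1 ≃* Co1, φ w ∉ R := by
    intro h49
    have : Fact (Nat.Prime 7) := ⟨by norm_num⟩
    rcases missing_of_cyclic (R := R) (s := 7) (by norm_num) (fun P => cyclic_of_sq (by norm_num; exact h49) P) hx hy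
      hxy with h | h
    · exact ⟨x, hx, h⟩
    · exact ⟨y, hy, h⟩
  by_cases h23 : 23 ∣ Nat.card R
  · have h13 : ¬ 13 ∣ Nat.card R := by
      intro h13
      refine false_of_empty tab known card_co1 valid1 (r := 23) (by norm_num) (by decide +kernel) hR h23 (s := 13)
        (k := 1) ⟨by norm_num, by norm_num, by norm_num; exact h13, no1 p23 p13 (by norm_num) (by norm_num),
          by decide +kernel⟩ ?_
      rw [surv_b]
      rfl
    have h49 : ¬ 49 ∣ Nat.card R := by
      intro h49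
      refine false_of_empty tab known card_co1 valid1 (r := 23) (by norm_num) (by decide +kernel) hR h23 (s := 7)
        (k := 2) ⟨by norm_num, by norm_num, by norm_num; exact h49, no1 p23 p7 (by norm_num) (by norm_num),
          by decide +kernel⟩ ?_
      rw [surv_a]
      rfl
    obtain ⟨w, hw, hwR⟩ := h7c h49
    exact Three.of_not_SC h13 (H870.Der.not_SC_chk (by norm_num) card_co1 hO (by decide +kernel)) hwR
      (by rw [hw]; norm_num)
  · have hsc : ¬ SC Co1 23 := H870.Der.not_SC_chk (by norm_num) card_co1 hO (by decide +kernel)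
    have two : ∀ p : ℕ, p.Prime → p ∣ 4157776806543360000 → p ≠ 23 → ¬ p ∣ Nat.card R → Three Co1 R := fun p hp hd hne h =>
      Three.of_two_primes (by norm_num) hp (Ne.symm hne) (by rw [card_co1]; exact hd) h23 h hsc
    by_cases h49 : 49 ∣ Nat.card R
    swap
    · obtain ⟨w, hw, hwR⟩ := h7c h49
      exact Three.of_not_SC h23 hsc hwR (by rw [hw]; norm_num)
    by_cases h11 : 11 ∣ Nat.card R
    swap
    · exact two 11 (by norm_num) (by norm_num) (by norm_num) h11
    by_cases h13 : 13 ∣ Nat.card R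
    swap
    · exact two 13 (by norm_num) (by norm_num) (by norm_num) h13
    exfalso
    obtain ⟨O, hO, N, g, ht, hna, hg, hr, hgc⟩ := exists_name tab known card_co1 valid1 (r := 13) (by norm_num)
      (by decide +kernel) hR h13 (ss := [(11, 1), (7, 2)]) (by simp) (by
        intro t ht
        simp only [List.mem_cons, List.not_mem_nil, or_false] at ht
        rcases ht with rfl | rfl
        · exact ⟨by norm_num, by norm_num, by norm_num; exact h11, no1 p13 p11 (by norm_num) (by norm_num),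
            by decide +kernel⟩
        · exact ⟨by norm_num, by norm_num, by norm_num; exact h49, no1 p13 p7 (by norm_num) (by norm_num),
            by decide +kernel⟩)
    have hg' : g ∈ surv 4157776806543360000 l 13 [11 ^ 1, 7 ^ 2] := hg
    rw [surv_c] at hg'
    have h7O : ¬ 7 ∣ Nat.card O := ht.not_dvd_core (by norm_num) (by norm_num) (SitA.noR (no1 p13 p7 (by norm_num)
      (by norm_num))) fun _ hb hd => okPow_spec valid1 (by decide +kernel) (by norm_num) hb (hd.trans hRn)
    simp only [List.mem_cons, List.not_mem_nil, or_false] at hg'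
    rcases hg' with rfl | rfl | rfl
    · obtain ⟨e⟩ := hr
      exact false_of_dat e h7O dat14
    · obtain ⟨e⟩ := hr
      exact false_of_dat e h7O dat15
    · obtain ⟨e⟩ := hr
      exact false_of_dat e h7O dat16

end Cfsg.Agent.H149.Der.One

namespace Cfsg.Agent.H149.Der

open Cfsg Cfsg.Agent.OrdDiv Cfsg.Agent.H257.El Cfsg.Agent.H439.Der

/-- **S3502 for `Co1`.** -/
theorem rowS_co1 (tab : OrderTable.{0}) (known : Known.{0}) {T : Type*} [Group T] (h : Spor.IsoCo1 T) : RowS T := by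
  obtain ⟨e⟩ := h
  have := H149.Sp.CopCo.finite_co1
  exact (RowS.of_three fun M hM => One.three_co1 tab known hM.1).congr e.symm

end Cfsg.Agent.H149.Der
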