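import Cfsg.Agent.H149.Der.CoEl
import Cfsg.Agent.H149.Der.CoCom
import Cfsg.Agent.H149.Sp.CopCoInv
import Cfsg.Agent.H870.Der.CoThree

/-!
# S3502: the strong row of `Co3` (helper149)
-/

set_option autoImplicit false

namespace Cfsg.Agent.H149.Der

open Subgroup Cfsg
open Cfsg.Agent.OrdDiv Cfsg.Agent.H278.El Cfsg.Agent.H257.El Cfsg.Agent.H439.Der
open Cfsg.Agent.H149.Sp (fd P5)
open Cfsg.Agent.H149.Sp.CopCo
open Cfsg.Agent.H870.Der (exists_of_top)
open Cfsg.Agent.H870.Der.CoThree (card_co3 noOrd23 exists30 exists22 nsc l)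

theorem leechV_ne : Spor.leechV ≠ 0 := by
  intro h
  have h1 := congrArg (fun v : leechLattice => (v : GolayPt → ℤ) none) h
  have h2 : Spor.vecV none = 0 := h1
  exact absurd h2 (by decide)

theorem leechU_ne : Spor.leechU ≠ 0 := by
  intro h
  have h1 := congrArg (fun v : leechLattice => (v : GolayPt → ℤ) none) h
  have h2 : Spor.vecU none = 0 := h1
  exact absurd h2 (by decide)

/-- different dimensions of the fixed spaces -/
theorem not_mem_zpowers {T : Type*} [Group T] {f : T →* Co0} (hf : Function.Injective f)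
    (hO : Nat.card (Cfsg.Out T) = 1) {p : ℕ} (hp : p.Prime) {x y : T} (hx : orderOf x = p) (hy : orderOf y = p)
    (hne : fd (f x) ≠ fd (f y)) (φ : T ≃* T) : φ y ∉ zpowers x := by
  intro h
  obtain ⟨g, hg⟩ := H870.Der.exists_conj hO φ
  have ho : ∀ g : T, orderOf (f g) = orderOf g := orderOf_injective f hf
  have hy' : orderOf (φ y) = p := by rw [H938.Sax.orderOf_mulEquiv, hy]
  have h1 : f (φ y) ∈ zpowers (f x) := by
    obtain ⟨k, hk⟩ := mem_zpowers_iff.1 h
    exact mem_zpowers_iff.2 ⟨k, by rw [← hk, map_zpow]⟩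
  have h2 := fd_of_zpowers hp ((ho x).trans hx) ((ho _).trans hy') h1
  rw [hg, map_mul, map_mul, map_inv, fd_conj] at h2
  exact hne h2.symm

/-- two classes of elements of order five in `Co3` -/
theorem exists_five3 : ∃ x y : Spor.Co3, orderOf x = 5 ∧ orderOf y = 5 ∧ ∀ φ : Spor.Co3 ≃* Spor.Co3, φ y ∉ zpowers x := by
  have := finite_co3
  obtain ⟨x, hx, h8⟩ := five3
  obtain ⟨y, hy, h4⟩ := exists_four f3_inj leechV_ne f3_fix (by rw [card_co3]; norm_num)
  exact ⟨x, y, hx, hy, not_mem_zpowers f3_inj S2071.result (by norm_num) hx hy (by rw [h8, h4]; norm_num)⟩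

theorem surv_a : surv 495766656000 l 23 [5 ^ 2] = [] := by decide +kernel
theorem surv_b : surv 495766656000 l 23 [5 ^ 1] = [.m23, .m24] := by decide +kernel
theorem surv_c : surv 495766656000 l 7 [5 ^ 2, 11 ^ 1] = [.alt 11, .alt 12, .mcl, .hs] := by decide +kernel

theorem adm {n : ℕ} {l : List (ℕ × ℕ)} {r : ℕ} {T : Type} [Group T] {R : Subgroup T} {s k : ℕ} (h1 : s.Prime)
    (h2 : 1 ≤ k) (h3 : s ^ k ∣ Nat.card R) (h4 : ∀ z : T, orderOf z ≠ r * s) (h5 : okPair n l r s = true) :
    Adm T n l r R s k := ⟨h1, h2, h3, h4, h5⟩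

/-- the numeric condition for a trivial core -/
def okAll' (l : List (ℕ × ℕ)) (r : ℕ) : Bool := l.all fun x => Nat.beq x.1 r || okPow l r x.1

theorem pr552 {s : ℕ} (hs : s.Prime) (h : s ∣ 552) (h23 : s ≠ 23) : s = 2 ∨ s = 3 := by
  have h1 : s ∣ 2 ^ 3 * 3 * 23 := by norm_num; exact h
  rcases (Nat.Prime.dvd_mul hs).1 h1 with h2 | h2
  · rcases (Nat.Prime.dvd_mul hs).1 h2 with h3 | h3
    · exact Or.inl ((Nat.prime_dvd_prime_iff_eq hs Nat.prime_two).1 (hs.dvd_of_dvd_pow h3))
    · exact Or.inr ((Nat.prime_dvd_prime_iff_eq hs Nat.prime_three).1 h3)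
  · exact absurd ((Nat.prime_dvd_prime_iff_eq hs (by norm_num)).1 h2) h23

theorem pr11178 {s : ℕ} (hs : s.Prime) (h : s ∣ 11178) (h23 : s ≠ 23) : s = 2 ∨ s = 3 := by
  have h1 : s ∣ 2 * 3 ^ 5 * 23 := by norm_num; exact h
  rcases (Nat.Prime.dvd_mul hs).1 h1 with h2 | h2
  · rcases (Nat.Prime.dvd_mul hs).1 h2 with h3 | h3
    · exact Or.inl ((Nat.prime_dvd_prime_iff_eq hs Nat.prime_two).1 h3)
    · exact Or.inr ((Nat.prime_dvd_prime_iff_eq hs Nat.prime_three).1 (hs.dvd_of_dvd_pow h3))
  · exact absurd ((Nat.prime_dvd_prime_iff_eq hs (by norm_num)).1 h2) h23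

theorem valid3 : OrdDiv.valid l 495766656000 = true := by decide +kernel

/-- non-adjacent primes -/
theorem no3 {p q : ℕ} (hp : P5 p) (hq : P5 q) (hpq : p ≠ q) (z : Spor.Co3) : orderOf z ≠ p * q :=
  have := finite_co3
  noOrd_of_noComm hp.prime hq.prime (H537.Cop.CB.ne (co3_p5 hp hq hpq)) z

theorem three_co3 (tab : OrderTable.{0}) (known : Known.{0}) {R : Subgroup Spor.Co3} (hR : R ≠ ⊤) :
    Three Spor.Co3 R := by
  have hfin := finite_co3
  obtain ⟨x, y, hx, hy, hxy⟩ := exists_five3
  obtain ⟨g30, h30⟩ := exists30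
  obtain ⟨g22, h22⟩ := exists22
  obtain ⟨g21, h21⟩ := exists21
  -- an element of order five is missing
  have h5c : ¬ 25 ∣ Nat.card R → ∃ w : Spor.Co3, orderOf w = 5 ∧ ∀ φ : Spor.Co3 ≃* Spor.Co3, φ w ∉ R := by
    intro h25
    have : Fact (Nat.Prime 5) := ⟨by norm_num⟩
    rcases missing_of_cyclic (R := R) (s := 5) (by norm_num) (fun P => cyclic_of_sq (by norm_num; exact h25) P) hx hy
      hxy with h | h
    · exact ⟨x, hx, h⟩
    · exact ⟨y, hy, h⟩
  by_cases h23 : 23 ∣ Nat.card R
  · -- `23 ∣ |R|`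
    have h25 : ¬ 25 ∣ Nat.card R := by
      intro h25
      refine false_of_empty tab known card_co3 valid3 (r := 23) (by norm_num) (by decide +kernel) hR h23 (s := 5)
        (k := 2) (adm (by norm_num) (by norm_num) (by norm_num; exact h25) (noOrd23 (by norm_num) (by norm_num))
        (by decide +kernel)) ?_
      rw [surv_a]
      rfl
    obtain ⟨w, hw, hwR⟩ := h5c h25
    by_cases h5 : 5 ∣ Nat.card R
    swap
    · have h10 : orderOf (g30 ^ 3) = 10 := by rw [orderOf_pow_of_dvd (by norm_num) (by rw [h30]; norm_num), h30]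
      exact Three.of_not_dvd h5 (not_SCC_of_orders (x := w) (y := g30 ^ 3) (z := g30) (by rw [hw]) (by rw [h10]; norm_num)
        (by rw [h30]; norm_num) (by rw [hw, h10]; norm_num) (by rw [hw, h30]; norm_num) (by rw [h10, h30]; norm_num))
        ⟨w, by rw [hw]⟩
    obtain ⟨O, hO, N, g, ht, hna, hg, hr, hgc⟩ := exists_name tab known card_co3 valid3 (r := 23) (by norm_num)
      (by decide +kernel) hR h23 (ss := [(5, 1)]) (by simp) (by
        intro t ht
        rw [List.mem_singleton] at ht
        rw [ht]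
        exact adm (by norm_num) (by norm_num) (by norm_num; exact h5) (noOrd23 (by norm_num) (by norm_num))
          (by decide +kernel))
    rw [List.map_singleton, surv_b] at hg
    have hO1 : ∀ s : ℕ, s.Prime → ¬ s ∣ Nat.card O := by
      intro s hs hsO
      have hrs : 23 ≠ s := by
        rintro rfl
        exact ht.core hsO
      obtain ⟨k, hk, -⟩ := exists_pair valid3 hs le_rfl (by
        rw [pow_one]
        exact (hsO.trans (Subgroup.card_subgroup_dvd_card O)).trans (by
          rw [← card_co3]; exact Subgroup.card_subgroup_dvd_card R))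
      have h1 : okAll' l 23 = true := by decide +kernel
      unfold okAll' at h1
      rw [List.all_eq_true] at h1
      have h2 := h1 _ hk
      rw [Bool.or_eq_true] at h2
      rcases h2 with h2 | h2
      · exact hrs (Nat.eq_of_beq_eq_true h2).symm
      · exact ht.not_dvd_core hs hrs (SitA.noR (noOrd23 hs hrs)) (fun _ hb hd => okPow_spec valid3 h2 hs hb
          (hd.trans (by rw [← card_co3]; exact Subgroup.card_subgroup_dvd_card R))) hsO
    have key : (∀ y : N, orderOf y ≠ 22) → (∀ y : N, orderOf y ≠ 30) → Nat.card (Cfsg.Out N) = 1 → Three Spor.Co3 R := by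
      intro n22 n30 hOut
      have e22 := H870.Der.not_order ht hna hOut hO1 n22
      have e30 := H870.Der.not_order ht hna hOut hO1 n30
      refine ⟨w, g22, g30, hwR, fun φ hφ => e22 ⟨_, hφ⟩ ?_, fun φ hφ => e30 ⟨_, hφ⟩ ?_, fun φ h => ?_, fun φ h => ?_,
        fun φ h => ?_⟩
      · rw [Subgroup.orderOf_mk, H938.Sax.orderOf_mulEquiv, h22]
      · rw [Subgroup.orderOf_mk, H938.Sax.orderOf_mulEquiv, h30]
      · have h1 := H938.Sax.orderOf_mulEquiv φ w
        rw [h, h22, hw] at h1
        norm_num at h1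
      · have h1 := H938.Sax.orderOf_mulEquiv φ w
        rw [h, h30, hw] at h1
        norm_num at h1
      · have h1 := H938.Sax.orderOf_mulEquiv φ g22
        rw [h, h30, h22] at h1
        norm_num at h1
    simp only [List.mem_cons, List.not_mem_nil, or_false] at hg
    rcases hg with rfl | rfl
    · have hr : Spor.IsoM23 N := hr
      exact key (H870.Der.MTF.not_m23 hr H870.Der.MTF.no22) (H870.Der.MTF.not_m23 hr H870.Der.MTF.no30)
        (H870.Der.out_m23 hr)
    · have hr : Spor.IsoM24 N := hr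
      exact key (H870.Der.MTF.not_m24 hr H870.Der.MTF.no22) (H870.Der.MTF.not_m24 hr H870.Der.MTF.no30)
        (H870.Der.out_m24 hr)
  · -- `23 ∤ |R|`: one more class
    have hsc : ¬ SC Spor.Co3 23 := nsc 23 (by norm_num) (by rw [card_co3]; norm_num)
    have two : ∀ p : ℕ, p.Prime → p ∣ 495766656000 → p ≠ 23 → ¬ p ∣ Nat.card R → Three Spor.Co3 R := fun p hp hd hne h =>
      Three.of_two_primes (by norm_num) hp (Ne.symm hne) (by rw [card_co3]; exact hd) h23 h hsc
    by_cases h25 : 25 ∣ Nat.card R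
    swap
    · obtain ⟨w, hw, hwR⟩ := h5c h25
      exact Three.of_not_SC h23 hsc hwR (by rw [hw]; norm_num)
    by_cases h7 : 7 ∣ Nat.card R
    swap
    · exact two 7 (by norm_num) (by norm_num) (by norm_num) h7
    by_cases h11 : 11 ∣ Nat.card R
    swap
    · exact two 11 (by norm_num) (by norm_num) (by norm_num) h11
    have hRn : Nat.card R ∣ 495766656000 := by
      rw [← card_co3]
      exact Subgroup.card_subgroup_dvd_card R
    obtain ⟨O, hO, N, g, ht, hna, hg, hr, hgc⟩ := exists_name tab known card_co3 valid3 (r := 7) (by norm_num)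
      (by decide +kernel) hR h7 (ss := [(5, 2), (11, 1)]) (by simp) (by
        intro t ht
        simp only [List.mem_cons, List.not_mem_nil, or_false] at ht
        rcases ht with rfl | rfl
        · exact adm (by norm_num) (by norm_num) (by norm_num; exact h25) (no3 (Or.inr (Or.inl rfl)) (Or.inl rfl)
            (by norm_num)) (by decide +kernel)
        · exact adm (by norm_num) (by norm_num) (by norm_num; exact h11) (no3 (Or.inr (Or.inl rfl))
            (Or.inr (Or.inr (Or.inl rfl))) (by norm_num)) (by decide +kernel))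
    have hg' : g ∈ surv 495766656000 l 7 [5 ^ 2, 11 ^ 1] := hg
    rw [surv_c] at hg'
    have h5O : ¬ 5 ∣ Nat.card O := ht.not_dvd_core (by norm_num) (by norm_num) (SitA.noR (no3 (Or.inr (Or.inl rfl))
      (Or.inl rfl) (by norm_num))) fun _ hb hd => okPow_spec valid3 (by decide +kernel) (by norm_num) hb
        (hd.trans hRn)
    have hN := ht.normal
    -- elements of order 21
    have main : 5 ^ 3 ∣ Nat.card N → (∃ m, m * Nat.card N = 495766656000 ∧ m % 2 ^ 20 ≠ 0 ∧ m % 3 ^ 20 ≠ 0 ∧
        ∀ s : ℕ, s.Prime → s ∣ m → s ≠ 23 → s = 2 ∨ s = 3) → 11 ∣ Nat.card N → (∀ z : N, orderOf z ≠ 21) → Three Spor.Co3 R := by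
      rintro h53 ⟨m, hm, hm2, hm3, hms⟩ h11N hno
      have hbot : O = ⊥ := core_eq_bot (R := R) (N := N) hRn hm h53 h5O (fun s hs hsm hsR => hms s hs hsm (by
          rintro rfl
          exact h23 hsR)) ⟨fun h => hm2 (Nat.mod_eq_zero_of_dvd h), fun h => hm3 (Nat.mod_eq_zero_of_dvd h)⟩
        co3_2_5 co3_3_5
      have h3i : ¬ 3 ∣ N.index := by
        intro hd
        have h112 : ¬ 11 ^ 2 ∣ Nat.card (R ⧸ O) := by
          intro h
          have h1 : 11 ^ 2 ∣ 495766656000 := (h.trans (by
            rw [← card_quot_mul O]; exact dvd_mul_right _ _)).trans hRn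
          norm_num at h1
        obtain ⟨z, hz⟩ := Top.exists_comm_quot (r := 11) (s := 3) (by norm_num) (by norm_num) (by norm_num) h112 N h11N hd
          (by norm_num)
        exact Top.noQuot O (SitA.noR (noOrd_of_noComm (by norm_num) (by norm_num) (H537.Cop.CB.ne co3_11_3))) z hz
      have h7i : ¬ 7 ∣ N.index := by
        intro hd
        apply ht.sq'
        rw [← Subgroup.card_mul_index N, pow_two]
        exact Nat.mul_dvd_mul ht.dvd hd
      have hcop : Nat.Coprime 21 N.index := by
        rw [show 21 = 3 * 7 by norm_num]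
        exact Nat.Coprime.mul_left ((Nat.Prime.coprime_iff_not_dvd (by norm_num)).2 h3i)
          ((Nat.Prime.coprime_iff_not_dvd (by norm_num)).2 h7i)
      refine Three.of_not_SC h23 hsc (z := g21) (fun φ hφ => ?_) (by rw [h21]; norm_num)
      obtain ⟨y, hy⟩ := exists_of_top (O := O) (N := N) (z := (⟨φ g21, hφ⟩ : R)) (k := 21) (by
        rw [hbot, Subgroup.card_bot]; exact Nat.coprime_one_right _) hcop (by
        rw [Subgroup.orderOf_mk, H938.Sax.orderOf_mulEquiv, h21])
      exact hno y hy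
    simp only [List.mem_cons, List.not_mem_nil, or_false] at hg'
    rcases hg' with rfl | rfl | rfl | rfl
    · exact (false_of_alt (T := Spor.Co3) h5O co3_5_3 (Or.inl hr)).elim
    · exact (false_of_alt (T := Spor.Co3) h5O co3_5_3 (Or.inr hr)).elim
    · have hr : Spor.IsoMcL N := hr
      have hc : Nat.card N = 898128000 := NotCT.Orders.mcl hr
      exact main (by rw [hc]; norm_num) ⟨552, by rw [hc], by norm_num, by norm_num, fun s hs hsm h => pr552 hs hsm h⟩
        (by rw [hc]; norm_num) (fun z => mcl_no hr (k := 3) (by norm_num) z)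
    · have hr : Spor.IsoHS N := hr
      have hc : Nat.card N = 44352000 := NotCT.Orders.hs hr
      exact main (by rw [hc]; norm_num) ⟨11178, by rw [hc], by norm_num, by norm_num, fun s hs hsm h => pr11178 hs hsm h⟩
        (by rw [hc]; norm_num) (fun z => hs_no hr (k := 3) (by norm_num) z)

/-- **S3502 for `Co3`.** -/
theorem rowS_co3 (tab : OrderTable.{0}) (known : Known.{0}) {T : Type*} [Group T] (h : Spor.IsoCo3 T) : RowS T := by
  obtain ⟨e⟩ := h
  have := finite_co3
  exact (RowS.of_three fun M hM => three_co3 tab known hM.1).congr e.symm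

end Cfsg.Agent.H149.Der
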