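import Cfsg.Agent.H149.Der.CoThreeS

/-!
# S3502: the strong row of `Co2` (helper149)
-/

set_option autoImplicit false

namespace Cfsg.Agent.H149.Der

open Subgroup Cfsg
open Cfsg.Agent.OrdDiv Cfsg.Agent.H278.El Cfsg.Agent.H257.El Cfsg.Agent.H439.Der
open Cfsg.Agent.H149.Sp (fd P5)
open Cfsg.Agent.H149.Sp.CopCo
open Cfsg.Agent.H870.Der (exists_of_top)

namespace Two

open Cfsg.Agent.H870.Der.CoTwo (card_co2 noOrd23 exists30 exists28 not_sc23 l)

/-- two classes of elements of order five in `Co2` -/
theorem exists_five2 : ∃ x y : Spor.Co2, orderOf x = 5 ∧ orderOf y = 5 ∧ ∀ φ : Spor.Co2 ≃* Spor.Co2, φ y ∉ zpowers x := by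
  have := finite_co2
  obtain ⟨x, hx, h8⟩ := five2
  obtain ⟨y, hy, h4⟩ := exists_four f2_inj leechU_ne f2_fix (by rw [card_co2]; norm_num)
  exact ⟨x, y, hx, hy, not_mem_zpowers f2_inj S2070.result (by norm_num) hx hy (by rw [h8, h4]; norm_num)⟩

theorem surv_a : surv 42305421312000 l 23 [5 ^ 2] = [] := by decide +kernel
theorem surv_b : surv 42305421312000 l 23 [5 ^ 1] = [.m23, .m24] := by decide +kernel
theorem surv_c : surv 42305421312000 l 7 [5 ^ 2, 11 ^ 1] = [.alt 11, .alt 12, .mcl, .hs] := by decide +kernel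

theorem valid2 : OrdDiv.valid l 42305421312000 = true := by decide +kernel

/-- non-adjacent primes -/
theorem no2 {p q : ℕ} (hp : P5 p) (hq : P5 q) (hpq : p ≠ q) (z : Spor.Co2) : orderOf z ≠ p * q :=
  have := finite_co2
  noOrd_of_noComm hp.prime hq.prime (H537.Cop.CB.ne (co2_p5 hp hq hpq)) z

theorem pr47104 {s : ℕ} (hs : s.Prime) (h : s ∣ 47104) (h23 : s ≠ 23) : s = 2 ∨ s = 3 := by
  have h1 : s ∣ 2 ^ 11 * 23 := by norm_num; exact h
  rcases (Nat.Prime.dvd_mul hs).1 h1 with h2 | h2
  · exact Or.inl ((Nat.prime_dvd_prime_iff_eq hs Nat.prime_two).1 (hs.dvd_of_dvd_pow h2))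
  · exact absurd ((Nat.prime_dvd_prime_iff_eq hs (by norm_num)).1 h2) h23

theorem pr953856 {s : ℕ} (hs : s.Prime) (h : s ∣ 953856) (h23 : s ≠ 23) : s = 2 ∨ s = 3 := by
  have h1 : s ∣ 2 ^ 9 * 3 ^ 4 * 23 := by norm_num; exact h
  rcases (Nat.Prime.dvd_mul hs).1 h1 with h2 | h2
  · rcases (Nat.Prime.dvd_mul hs).1 h2 with h3 | h3
    · exact Or.inl ((Nat.prime_dvd_prime_iff_eq hs Nat.prime_two).1 (hs.dvd_of_dvd_pow h3))
    · exact Or.inr ((Nat.prime_dvd_prime_iff_eq hs Nat.prime_three).1 (hs.dvd_of_dvd_pow h3))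
  · exact absurd ((Nat.prime_dvd_prime_iff_eq hs (by norm_num)).1 h2) h23

/-- the square of an element of `R` is in `N` -/
theorem exists_sq {R : Type*} [Group R] [Finite R] {O : Subgroup R} [O.Normal] {N : Subgroup (R ⧸ O)} [N.Normal]
    (hO : O = ⊥) (hi : N.index ∣ 2) {z : R} {k : ℕ} (hz : orderOf z = 2 * k) : ∃ y : N, orderOf y = k := by
  have hinj : Function.Injective (QuotientGroup.mk' O) := by
    rw [← MonoidHom.ker_eq_bot_iff, QuotientGroup.ker_mk', hO]
  have hmem : (QuotientGroup.mk' O z) ^ 2 ∈ N := by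
    rcases (Nat.dvd_prime Nat.prime_two).1 hi with h | h
    · rw [Subgroup.index_eq_one] at h
      rw [h]
      trivial
    · exact Subgroup.sq_mem_of_index_two h _
  refine ⟨⟨_, hmem⟩, ?_⟩
  rw [Subgroup.orderOf_mk, orderOf_pow_of_dvd (by norm_num) (by rw [orderOf_injective _ hinj, hz]; exact dvd_mul_right _ _),
    orderOf_injective _ hinj, hz, Nat.mul_div_cancel_left _ (by norm_num)]

/-- all subgroups other than those of order `2 |McL|` -/
theorem three_co2 (tab : OrderTable.{0}) (known : Known.{0}) {R : Subgroup Spor.Co2} (hR : R ≠ ⊤) :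
    Three Spor.Co2 R ∨ Nat.card R = 1796256000 := by
  have hfin := finite_co2
  obtain ⟨x, y, hx, hy, hxy⟩ := exists_five2
  obtain ⟨g30, h30⟩ := exists30
  obtain ⟨g28, h28⟩ := exists28
  have hRn : Nat.card R ∣ 42305421312000 := by
    rw [← card_co2]
    exact Subgroup.card_subgroup_dvd_card R
  -- an element of order five is missing
  have h5c : ¬ 25 ∣ Nat.card R → ∃ w : Spor.Co2, orderOf w = 5 ∧ ∀ φ : Spor.Co2 ≃* Spor.Co2, φ w ∉ R := by
    intro h25
    have : Fact (Nat.Prime 5) := ⟨by norm_num⟩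
    rcases missing_of_cyclic (R := R) (s := 5) (by norm_num) (fun P => cyclic_of_sq (by norm_num; exact h25) P) hx hy
      hxy with h | h
    · exact ⟨x, hx, h⟩
    · exact ⟨y, hy, h⟩
  by_cases h23 : 23 ∣ Nat.card R
  · -- `23 ∣ |R|`
    left
    have h25 : ¬ 25 ∣ Nat.card R := by
      intro h25
      refine false_of_empty tab known card_co2 valid2 (r := 23) (by norm_num) (by decide +kernel) hR h23 (s := 5)
        (k := 2) (adm (by norm_num) (by norm_num) (by norm_num; exact h25) (noOrd23 (by norm_num) (by norm_num))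
        (by decide +kernel)) ?_
      rw [surv_a]
      rfl
    obtain ⟨w, hw, hwR⟩ := h5c h25
    by_cases h5 : 5 ∣ Nat.card R
    swap
    · have h10 : orderOf (g30 ^ 3) = 10 := by rw [orderOf_pow_of_dvd (by norm_num) (by rw [h30]; norm_num), h30]
      exact Three.of_not_dvd h5 (not_SCC_of_orders (x := w) (y := g30 ^ 3) (z := g30) (by rw [hw]) (by rw [h10]; norm_num)
        (by rw [h30]; norm_num) (by rw [hw, h10]; norm_num) (by rw [hw, h30]; norm_num) (by rw [h10, h30]; norm_num))
        ⟨w, by rw [hw]⟩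
    obtain ⟨O, hO, N, g, ht, hna, hg, hr, hgc⟩ := exists_name tab known card_co2 valid2 (r := 23) (by norm_num)
      (by decide +kernel) hR h23 (ss := [(5, 1)]) (by simp) (by
        intro t ht
        rw [List.mem_singleton] at ht
        rw [ht]
        exact adm (by norm_num) (by norm_num) (by norm_num; exact h5) (noOrd23 (by norm_num) (by norm_num))
          (by decide +kernel))
    rw [List.map_singleton, surv_b] at hg
    have h11N : 11 ∣ Nat.card N := by
      simp only [List.mem_cons, List.not_mem_nil, or_false] at hg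
      rcases hg with rfl | rfl
      · rw [hgc]; decide +kernel
      · rw [hgc]; decide +kernel
    have h11O : ¬ 11 ∣ Nat.card O := ht.not_dvd_core (by norm_num) (by norm_num) (SitA.noR (noOrd23 (by norm_num)
      (by norm_num))) fun _ hb hd => okPow_spec valid2 (by decide +kernel) (by norm_num) hb (hd.trans hRn)
    have hO1 : ∀ s : ℕ, s.Prime → ¬ s ∣ Nat.card O := by
      intro s hs hsO
      have hrs : 23 ≠ s := by
        rintro rfl
        exact ht.core hsO
      by_cases hs2 : s = 2
      · subst hs2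
        obtain ⟨b, hb1, hb, hb2, hb3⟩ := core_pow O (r := 23) (s := 2) (by norm_num) (by norm_num) (by norm_num) h23
          ht.core hsO (SitA.noR (noOrd23 (by norm_num) (by norm_num)))
        obtain ⟨c, hc1, hc, hc2, hc3⟩ := core_pow O (r := 11) (s := 2) (by norm_num) (by norm_num) (by norm_num) (by
            rw [← core_mul_dvd N]
            exact (h11N.trans (dvd_mul_left _ _)).trans (dvd_mul_right _ _))
          h11O hsO (SitA.noR (noOrd_of_noComm (by norm_num) (by norm_num) fun a b ha hb h =>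
            H537.Cop.CB.ne co2_2_11 b a hb ha h.symm))
        have hbc : b = c := by
          apply le_antisymm
          · by_contra h
            exact hc3 ((pow_dvd_pow 2 (by omega)).trans hb)
          · by_contra h
            exact hb3 ((pow_dvd_pow 2 (by omega)).trans hc)
        subst hbc
        have hb18 : b ≤ 18 := by
          by_contra h
          have h1 : 2 ^ 19 ∣ 42305421312000 := ((pow_dvd_pow 2 (by omega)).trans hb).trans
            ((Subgroup.card_subgroup_dvd_card O).trans hRn)
          norm_num at h1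
        interval_cases b <;> omega
      obtain ⟨k, hk, -⟩ := exists_pair valid2 hs le_rfl (by
        rw [pow_one]
        exact (hsO.trans (Subgroup.card_subgroup_dvd_card O)).trans hRn)
      have h1 : (l.all fun x => Nat.beq x.1 23 || Nat.beq x.1 2 || okPow l 23 x.1) = true := by decide +kernel
      rw [List.all_eq_true] at h1
      have h2 := h1 _ hk
      rw [Bool.or_eq_true, Bool.or_eq_true] at h2
      rcases h2 with (h2 | h2) | h2
      · exact hrs (Nat.eq_of_beq_eq_true h2).symm
      · exact hs2 (Nat.eq_of_beq_eq_true h2)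
      · exact ht.not_dvd_core hs hrs (SitA.noR (noOrd23 hs hrs)) (fun _ hb hd => okPow_spec valid2 h2 hs hb
          (hd.trans hRn)) hsO
    have key : (∀ y : N, orderOf y ≠ 28) → (∀ y : N, orderOf y ≠ 30) → Nat.card (Cfsg.Out N) = 1 → Three Spor.Co2 R := by
      intro n28 n30 hOut
      have e28 := H870.Der.not_order ht hna hOut hO1 n28
      have e30 := H870.Der.not_order ht hna hOut hO1 n30
      refine ⟨w, g28, g30, hwR, fun φ hφ => e28 ⟨_, hφ⟩ ?_, fun φ hφ => e30 ⟨_, hφ⟩ ?_, fun φ h => ?_, fun φ h => ?_,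
        fun φ h => ?_⟩
      · rw [Subgroup.orderOf_mk, H938.Sax.orderOf_mulEquiv, h28]
      · rw [Subgroup.orderOf_mk, H938.Sax.orderOf_mulEquiv, h30]
      · have h1 := H938.Sax.orderOf_mulEquiv φ w
        rw [h, h28, hw] at h1
        norm_num at h1
      · have h1 := H938.Sax.orderOf_mulEquiv φ w
        rw [h, h30, hw] at h1
        norm_num at h1
      · have h1 := H938.Sax.orderOf_mulEquiv φ g28
        rw [h, h30, h28] at h1
        norm_num at h1
    simp only [List.mem_cons, List.not_mem_nil, or_false] at hg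
    rcases hg with rfl | rfl
    · have hr : Spor.IsoM23 N := hr
      exact key (H870.Der.MTF.not_m23 hr H870.Der.MTF.no28) (H870.Der.MTF.not_m23 hr H870.Der.MTF.no30)
        (H870.Der.out_m23 hr)
    · have hr : Spor.IsoM24 N := hr
      exact key (H870.Der.MTF.not_m24 hr H870.Der.MTF.no28) (H870.Der.MTF.not_m24 hr H870.Der.MTF.no30)
        (H870.Der.out_m24 hr)
  · -- `23 ∤ |R|`: one more class
    have hsc : ¬ SC Spor.Co2 23 := not_sc23
    have two : ∀ p : ℕ, p.Prime → p ∣ 42305421312000 → p ≠ 23 → ¬ p ∣ Nat.card R → Three Spor.Co2 R := fun p hp hd hne h =>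
      Three.of_two_primes (by norm_num) hp (Ne.symm hne) (by rw [card_co2]; exact hd) h23 h hsc
    by_cases h25 : 25 ∣ Nat.card R
    swap
    · obtain ⟨w, hw, hwR⟩ := h5c h25
      exact Or.inl (Three.of_not_SC h23 hsc hwR (by rw [hw]; norm_num))
    by_cases h7 : 7 ∣ Nat.card R
    swap
    · exact Or.inl (two 7 (by norm_num) (by norm_num) (by norm_num) h7)
    by_cases h11 : 11 ∣ Nat.card R
    swap
    · exact Or.inl (two 11 (by norm_num) (by norm_num) (by norm_num) h11)
    obtain ⟨O, hO, N, g, ht, hna, hg, hr, hgc⟩ := exists_name tab known card_co2 valid2 (r := 7) (by norm_num)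
      (by decide +kernel) hR h7 (ss := [(5, 2), (11, 1)]) (by simp) (by
        intro t ht
        simp only [List.mem_cons, List.not_mem_nil, or_false] at ht
        rcases ht with rfl | rfl
        · exact adm (by norm_num) (by norm_num) (by norm_num; exact h25) (no2 (Or.inr (Or.inl rfl)) (Or.inl rfl)
            (by norm_num)) (by decide +kernel)
        · exact adm (by norm_num) (by norm_num) (by norm_num; exact h11) (no2 (Or.inr (Or.inl rfl))
            (Or.inr (Or.inr (Or.inl rfl))) (by norm_num)) (by decide +kernel))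
    have hg' : g ∈ surv 42305421312000 l 7 [5 ^ 2, 11 ^ 1] := hg
    rw [surv_c] at hg'
    have h5O : ¬ 5 ∣ Nat.card O := ht.not_dvd_core (by norm_num) (by norm_num) (SitA.noR (no2 (Or.inr (Or.inl rfl))
      (Or.inl rfl) (by norm_num))) fun _ hb hd => okPow_spec valid2 (by decide +kernel) (by norm_num) hb
        (hd.trans hRn)
    have hN := ht.normal
    have hbot : 5 ^ 3 ∣ Nat.card N → (∃ m, m * Nat.card N = 42305421312000 ∧ m % 2 ^ 20 ≠ 0 ∧ m % 3 ^ 20 ≠ 0 ∧
        ∀ s : ℕ, s.Prime → s ∣ m → s ≠ 23 → s = 2 ∨ s = 3) → O = ⊥ := by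
      rintro h53 ⟨m, hm, hm2, hm3, hms⟩
      exact core_eq_bot (R := R) (N := N) hRn hm h53 h5O (fun s hs hsm hsR => hms s hs hsm (by
          rintro rfl
          exact h23 hsR)) ⟨fun h => hm2 (Nat.mod_eq_zero_of_dvd h), fun h => hm3 (Nat.mod_eq_zero_of_dvd h)⟩
        co2_2_5 co2_3_5
    simp only [List.mem_cons, List.not_mem_nil, or_false] at hg'
    rcases hg' with rfl | rfl | rfl | rfl
    · exact (false_of_alt (T := Spor.Co2) h5O co2_5_3 (Or.inl hr)).elim
    · exact (false_of_alt (T := Spor.Co2) h5O co2_5_3 (Or.inr hr)).elim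
    · have hr : Spor.IsoMcL N := hr
      have hc : Nat.card N = 898128000 := NotCT.Orders.mcl hr
      have hb := hbot (by rw [hc]; norm_num) ⟨47104, by rw [hc], by norm_num, by norm_num,
        fun s hs hsm h => pr47104 hs hsm h⟩
      have hi : N.index ∣ 2 := ht.index_dvd_out hna (by rw [← out_mcl hr]; exact card_mulAut_dvd)
      rcases (Nat.dvd_prime Nat.prime_two).1 hi with h1 | h2
      · left
        refine Three.of_not_SC h23 hsc (z := g28) (fun φ hφ => ?_) (by rw [h28]; norm_num)
        obtain ⟨y, hy⟩ := exists_of_top (O := O) (N := N) (z := (⟨φ g28, hφ⟩ : R)) (k := 28) (by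
          rw [hb, Subgroup.card_bot]; exact Nat.coprime_one_right _) (by rw [h1]; exact Nat.coprime_one_right _) (by
          rw [Subgroup.orderOf_mk, H938.Sax.orderOf_mulEquiv, h28])
        exact mcl_no hr (k := 4) (by norm_num) y hy
      · right
        have hO1 : Nat.card O = 1 := by rw [hb, Subgroup.card_bot]
        rw [← core_mul_dvd N, hO1, h2, hc]
    · have hr : Spor.IsoHS N := hr
      have hc : Nat.card N = 44352000 := NotCT.Orders.hs hr
      have hb := hbot (by rw [hc]; norm_num) ⟨953856, by rw [hc], by norm_num, by norm_num,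
        fun s hs hsm h => pr953856 hs hsm h⟩
      have hi : N.index ∣ 2 := ht.index_dvd_out hna (by rw [← out_hs hr]; exact card_mulAut_dvd)
      left
      refine Three.of_not_SC h23 hsc (z := g28) (fun φ hφ => ?_) (by rw [h28]; norm_num)
      obtain ⟨y, hy⟩ := exists_sq (O := O) (N := N) hb hi (z := (⟨φ g28, hφ⟩ : R)) (k := 14) (by
        rw [Subgroup.orderOf_mk, H938.Sax.orderOf_mulEquiv, h28])
      exact hs_no hr (k := 2) (by norm_num) y hy

end Two

/-- **S3502 for `Co2`.** -/
theorem rowS_co2 (tab : OrderTable.{0}) (known : Known.{0}) {T : Type*} [Group T] (h : Spor.IsoCo2 T) : RowS T := by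
  obtain ⟨e⟩ := h
  have := finite_co2
  refine RowS.congr e.symm (RowS.of_coatoms fun M hM => ?_)
  rcases Two.three_co2 tab known hM.1 with h1 | h1
  · exact Or.inl h1
  · right
    refine ⟨Two.of_not_dvd (v := 23) (by rw [h1]; norm_num) H870.Der.CoTwo.not_sc23, fun R hR => ?_⟩
    rcases Two.three_co2 tab known (R := R) (fun h => by
      rw [h] at hR
      exact hR.not_ge le_top) with h2 | h2
    · exact h2
    · exact absurd (Subgroup.eq_of_le_of_card_ge hR.le (by rw [h1, h2])) hR.ne

end Cfsg.Agent.H149.Der
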