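import Cfsg.Agent.H257.El.TopB
import Cfsg.Agent.H257.El.TopC
import Cfsg.Agent.H439.Der.Three

/-!
# S3502, sporadic groups: the engine (helper149)

* `exists_name` : a proper subgroup `R` of `T`, `r ∥ |T|`, `r ∣ |R|`, powers `s ^ k ∣ |R|` of primes `s` not adjacent to `r`:
  the simple group at the top of `R` is in the list `surv`
* `three_of_cyclic` : three missing classes from a cyclic Sylow subgroup
* `exists_missing_nine` : `9 ∥ |R|`
* `lift_cent` : coprime lifting of centralizers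
* `core_pow` : `s ∣ |O|`, no element of order `r s`: a power of `s` is `1` modulo `r`
* `core_false` : `p ^ 3 ∣ |R|`, `p ^ 2 ∤ |C(z)|` for `z` of order `s ∣ |O|`: a power of `s` is `1` modulo `p ^ 2`
-/

set_option autoImplicit false

namespace Cfsg.Agent.H149.Der

open Subgroup
open Cfsg.Agent.OrdDiv Cfsg.Agent.H278.El Cfsg.Agent.H257.El Cfsg.Agent.H439.Der
open Cfsg.Agent.H938.Sax (orderOf_mulEquiv)

universe u

section name

variable {T : Type u} [Group T] [Finite T]

/-- a prime power dividing `|R|` -/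
structure Adm (T : Type u) [Group T] (n : ℕ) (l : List (ℕ × ℕ)) (r : ℕ) (R : Subgroup T) (s k : ℕ) : Prop where
  prime : s.Prime
  pos : 1 ≤ k
  dvd : s ^ k ∣ Nat.card R
  no : ∀ z : T, orderOf z ≠ r * s
  ok : okPair n l r s = true

theorem exists_name (tab : OrderTable.{u}) (known : Known.{u}) {n : ℕ} {l : List (ℕ × ℕ)} {r : ℕ} {R : Subgroup T}
    (hn : Nat.card T = n) (hv : OrdDiv.valid l n = true) (hr : r.Prime) (hr2 : (n % r ^ 2 != 0) = true) (hR : R ≠ ⊤)
    (hd : r ∣ Nat.card R) {ss : List (ℕ × ℕ)} (hne : ss ≠ []) (hss : ∀ s ∈ ss, Adm T n l r R s.1 s.2) :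
    ∃ (O : Subgroup R) (_ : O.Normal) (N : Subgroup (R ⧸ O)) (g : Grp), Top R r O N ∧ (¬ ∀ a b : N, a * b = b * a) ∧
      g ∈ surv n l r (ss.map fun s => s.1 ^ s.2) ∧ Real g N ∧ Nat.card N = ordN g := by
  have hRn : Nat.card R ∣ n := by rw [← hn]; exact Subgroup.card_subgroup_dvd_card R
  have hr2' : ¬ r ^ 2 ∣ n := by
    intro h
    rw [Nat.mod_eq_zero_of_dvd h] at hr2
    exact absurd hr2 (by decide)
  obtain ⟨O, hO, N, h⟩ := exists_top hr hd (fun h => hr2' (h.trans hRn))
  have hpow : ∀ s ∈ ss, s.1 ^ s.2 ∣ Nat.card N := by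
    intro s hs
    obtain ⟨h1, h2, h3, h4, h5⟩ := hss s hs
    unfold okPair at h5
    rw [Bool.and_eq_true, Bool.and_eq_true, Bool.and_eq_true] at h5
    obtain ⟨⟨⟨h6, h7⟩, -⟩, h8⟩ := h5
    have h6' : r ≠ s.1 := by simpa using h6
    have h7' : ¬ s.1 ∣ r - 1 := by
      intro hd
      rw [Nat.mod_eq_zero_of_dvd hd] at h7
      exact absurd h7 (by decide)
    exact h.pow_dvd_iff h1 h6' (SitA.noR h4) (fun _ hb hd => okPow_spec hv h8 h1 hb (hd.trans hRn)) h7' h3
  have hna : ¬ ∀ a b : N, a * b = b * a := by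
    obtain ⟨s, hs⟩ := List.exists_mem_of_ne_nil ss hne
    obtain ⟨h1, h2, h3, h4, h5⟩ := hss s hs
    unfold okPair at h5
    rw [Bool.and_eq_true, Bool.and_eq_true, Bool.and_eq_true] at h5
    have h6' : r ≠ s.1 := by simpa using h5.1.1.1
    exact SitA.not_comm_of_dvd h h1 h6' ((dvd_pow_self _ (by omega)).trans (hpow s hs))
  have hsim := h.simple
  have hNR : Nat.card N ∣ Nat.card R := by
    refine (Subgroup.card_subgroup_dvd_card N).trans ?_
    rw [← card_quot_mul O]
    exact dvd_mul_right _ _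
  have hNn : Nat.card N ∣ n := hNR.trans hRn
  obtain ⟨g, hg, hrl, hc⟩ := exists_good tab (known N) hna hv hNn
  refine ⟨O, hO, N, g, h, hna, List.mem_filter.2 ⟨hg, ?_⟩, hrl, hc⟩
  unfold okG
  rw [Bool.and_eq_true, Bool.and_eq_true, List.all_eq_true]
  refine ⟨⟨?_, ?_⟩, fun s hs => ?_⟩
  · rw [← hc, Nat.mod_eq_zero_of_dvd h.dvd]; rfl
  · rw [← hc]
    have h1 : Nat.card N ≤ Nat.card R := Nat.le_of_dvd Nat.card_pos hNR
    have h2 : Nat.card R < n := by
      rw [← hn]
      refine lt_of_le_of_ne (Nat.le_of_dvd Nat.card_pos (Subgroup.card_subgroup_dvd_card R)) fun h => hR ?_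
      exact Subgroup.eq_top_of_card_eq R h
    have h3 : Nat.card N ≠ n := by omega
    simpa using h3
  · obtain ⟨t, ht, rfl⟩ := List.mem_map.1 hs
    rw [← hc, Nat.mod_eq_zero_of_dvd (hpow t ht)]; rfl

/-- no name: contradiction -/
theorem false_of_empty (tab : OrderTable.{u}) (known : Known.{u}) {n : ℕ} {l : List (ℕ × ℕ)} {r : ℕ} {R : Subgroup T}
    (hn : Nat.card T = n) (hv : OrdDiv.valid l n = true) (hr : r.Prime) (hr2 : (n % r ^ 2 != 0) = true) (hR : R ≠ ⊤)
    (hd : r ∣ Nat.card R) {s k : ℕ} (hs : Adm T n l r R s k) (he : (surv n l r [s ^ k]).isEmpty = true) : False := by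
  obtain ⟨O, _, N, g, -, -, hg, -, -⟩ := exists_name tab known hn hv hr hr2 hR hd (ss := [(s, k)]) (by simp) (by
    intro t ht
    rw [List.mem_singleton] at ht
    rw [ht]
    exact hs)
  rw [List.isEmpty_iff] at he
  rw [List.map_singleton, he] at hg
  simp at hg

end name

/-! ### Missing classes -/

section missing

variable {T : Type*} [Group T]

/-- two classes of subgroups of order `s`, cyclic Sylow subgroups -/
theorem missing_of_cyclic {R : Subgroup T} [Finite R] {s : ℕ} (hs : s.Prime)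
    (hcyc : ∀ P : Sylow s R, IsCyclic P) {x y : T} (hx : orderOf x = s) (hy : orderOf y = s)
    (hxy : ∀ φ : T ≃* T, φ y ∉ zpowers x) : (∀ φ : T ≃* T, φ x ∉ R) ∨ (∀ φ : T ≃* T, φ y ∉ R) := by
  have := Fact.mk hs
  by_contra hn
  push Not at hn
  obtain ⟨⟨a, ha⟩, b, hb⟩ := hn
  have hx' : orderOf (⟨a x, ha⟩ : R) = s := by
    rw [Subgroup.orderOf_mk, ← hx]
    exact (orderOf_injective a.toMonoidHom a.injective x)
  have hy' : orderOf (⟨b y, hb⟩ : R) = s := by
    rw [Subgroup.orderOf_mk, ← hy]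
    exact (orderOf_injective b.toMonoidHom b.injective y)
  obtain ⟨g, hg⟩ := conj_of_cyclic hcyc hx' hy'
  obtain ⟨j, hj⟩ := mem_zpowers_iff.1 hg
  have h1 : (a x) ^ j = (g : T) * (b y) * (g : T)⁻¹ := congrArg Subtype.val hj
  apply hxy ((b.trans (MulAut.conj (g : T))).trans a.symm)
  refine mem_zpowers_iff.2 ⟨j, ?_⟩
  apply a.injective
  rw [map_zpow, h1]
  simp

/-- elements with a missing power are missing -/
theorem missing_of_mul {R : Subgroup T} {x u : T} {s m : ℕ} (hm : s.Coprime m) (hx : orderOf x = s)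
    (hu : orderOf u = m) (hc : Commute x u) (h : ∀ φ : T ≃* T, φ x ∉ R) (φ : T ≃* T) : φ (x * u) ∉ R := by
  intro hxu
  have h1 : x ∈ zpowers (x * u) := by
    have h2 : (x * u) ^ m = x ^ m := by
      rw [hc.mul_pow, ← hu, pow_orderOf_eq_one, mul_one]
    have h3 : zpowers (x ^ m) = zpowers x := by
      have h4 : (orderOf x).Coprime m := by rw [hx]; exact hm
      obtain ⟨k, hk⟩ := exists_pow_eq_self_of_coprime h4.symm
      apply le_antisymm
      · exact zpowers_le.2 (pow_mem (mem_zpowers x) m)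
      · rw [zpowers_le]
        have h5 := pow_mem (mem_zpowers (x ^ m)) k
        rwa [hk] at h5
    have h5 : x ∈ zpowers (x ^ m) := by rw [h3]; exact mem_zpowers x
    rw [← h2] at h5
    exact (zpowers_le.2 (pow_mem (mem_zpowers (x * u)) m)) h5
  obtain ⟨j, hj⟩ := mem_zpowers_iff.1 h1
  apply h φ
  rw [← hj, map_zpow]
  exact R.zpow_mem hxu j

/-- a missing element commuting with elements of two different orders prime to its order -/
theorem three_of_missing {R : Subgroup T} {x u v : T} {s a b : ℕ} (hx : orderOf x = s) (hu : orderOf u = a)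
    (hv : orderOf v = b) (hs0 : s ≠ 0) (ha : s.Coprime a) (hb : s.Coprime b) (hab : a ≠ b) (ha1 : a ≠ 1)
    (hb1 : b ≠ 1) (hxu : Commute x u) (hxv : Commute x v) (h : ∀ φ : T ≃* T, φ x ∉ R) : Three T R := by
  have o1 : orderOf (x * u) = s * a := by
    rw [hxu.orderOf_mul_eq_mul_orderOf_of_coprime (by rw [hx, hu]; exact ha), hx, hu]
  have o2 : orderOf (x * v) = s * b := by
    rw [hxv.orderOf_mul_eq_mul_orderOf_of_coprime (by rw [hx, hv]; exact hb), hx, hv]
  have key : ∀ (c d : T) (φ : T ≃* T), orderOf c ≠ orderOf d → φ c ≠ d := by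
    intro c d φ hne h
    apply hne
    rw [← h, orderOf_mulEquiv]
  refine ⟨x, x * u, x * v, h, missing_of_mul ha hx hu hxu h, missing_of_mul hb hx hv hxv h,
    fun φ => key _ _ φ ?_, fun φ => key _ _ φ ?_, fun φ => key _ _ φ ?_⟩
  · rw [hx, o1]
    intro h1
    apply ha1
    have h2 : s * 1 = s * a := by rw [mul_one]; exact h1
    exact (Nat.eq_of_mul_eq_mul_left (Nat.pos_of_ne_zero hs0) h2).symm
  · rw [hx, o2]
    intro h1
    apply hb1
    have h2 : s * 1 = s * b := by rw [mul_one]; exact h1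
    exact (Nat.eq_of_mul_eq_mul_left (Nat.pos_of_ne_zero hs0) h2).symm
  · rw [o1, o2]
    intro h1
    exact hab (Nat.eq_of_mul_eq_mul_left (Nat.pos_of_ne_zero hs0) h1)

/-- `x` commutes with elements of orders `a`, `b` -/
def Com (T : Type*) [Group T] (x : T) (a b : ℕ) : Prop :=
  (∃ u : T, orderOf u = a ∧ Commute x u) ∧ ∃ v : T, orderOf v = b ∧ Commute x v

/-- **three missing classes from a cyclic Sylow subgroup** -/
theorem three_of_cyclic {R : Subgroup T} [Finite R] {s a b : ℕ} (hs : s.Prime) (ha : s.Coprime a) (hb : s.Coprime b)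
    (hab : a ≠ b) (ha1 : a ≠ 1) (hb1 : b ≠ 1) (hsq : ¬ s ^ 2 ∣ Nat.card R) {x y : T} (hx : orderOf x = s)
    (hy : orderOf y = s) (hxy : ∀ φ : T ≃* T, φ y ∉ zpowers x) (hcx : Com T x a b) (hcy : Com T y a b) :
    Three T R := by
  have := Fact.mk hs
  obtain ⟨⟨u, hu, hxu⟩, v, hv, hxv⟩ := hcx
  obtain ⟨⟨u', hu', hyu⟩, v', hv', hyv⟩ := hcy
  rcases missing_of_cyclic hs (fun P => cyclic_of_sq hsq P) hx hy hxy with h | h
  · exact three_of_missing hx hu hv hs.ne_zero ha hb hab ha1 hb1 hxu hxv h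
  · exact three_of_missing hy hu' hv' hs.ne_zero ha hb hab ha1 hb1 hyu hyv h

/-- `9 ∥ |R|`: a missing element of order three or nine -/
theorem exists_missing_nine [Finite T] {R : Subgroup T} (h27 : ¬ 27 ∣ Nat.card R) {x y z : T} (hx : orderOf x = 3)
    (hy : orderOf y = 3) (hz : orderOf z = 9) (hxy : ∀ φ : T ≃* T, φ y ∉ zpowers x) :
    ∃ w : T, (∀ φ : T ≃* T, φ w ∉ R) ∧ (orderOf w = 3 ∨ orderOf w = 9) := by
  have h3 : Fact (Nat.Prime 3) := ⟨Nat.prime_three⟩
  by_cases hcyc : ∀ P : Sylow 3 R, IsCyclic P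
  · rcases missing_of_cyclic Nat.prime_three hcyc hx hy hxy with h | h
    · exact ⟨x, h, Or.inl hx⟩
    · exact ⟨y, h, Or.inl hy⟩
  · refine ⟨z, fun φ hφ => hcyc fun P => ?_, Or.inr hz⟩
    have hz' : orderOf (⟨φ z, hφ⟩ : R) = 9 := by rw [Subgroup.orderOf_mk, orderOf_mulEquiv, hz]
    obtain ⟨a, ha⟩ := IsPGroup.iff_card.1 P.isPGroup'
    have ha2 : a ≤ 2 := by
      by_contra hlt
      apply h27
      have h4 : 3 ^ 3 ∣ 3 ^ a := pow_dvd_pow 3 (by omega)
      rw [← ha] at h4
      exact h4.trans (card_subgroup_dvd_card _)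
    have hpz : IsPGroup 3 (zpowers (⟨φ z, hφ⟩ : R)) := IsPGroup.of_card (n := 2) (by rw [Nat.card_zpowers, hz']; norm_num)
    obtain ⟨P', hP'⟩ := hpz.exists_le_sylow
    have hc : Nat.card P' = Nat.card P := Nat.card_congr (P'.equiv P).toEquiv
    have hP'9 : Nat.card P' ≤ 9 := by
      rw [hc, ha]
      exact (Nat.pow_le_pow_right (by norm_num) ha2)
    have he : zpowers (⟨φ z, hφ⟩ : R) = P' := by
      apply Subgroup.eq_of_le_of_card_ge hP'
      rw [Nat.card_zpowers, hz']
      exact hP'9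
    have hcy : IsCyclic P' := by
      rw [← he]
      infer_instance
    exact isCyclic_of_surjective (P'.equiv P) (P'.equiv P).surjective

end missing

/-! ### Coprime lifting -/

section lift

variable {R : Type*} [Group R] [Finite R]

/-- **Coprime lifting**: conjugacy of subgroups of prime order -/
theorem lift_conj (O : Subgroup R) [hO : O.Normal] {p : ℕ} (hp : p.Prime) (hpO : ¬ p ∣ Nat.card O) {x y : R}
    (hx : orderOf x = p) (hy : orderOf y = p) (hxy : QuotientGroup.mk' O x = QuotientGroup.mk' O y) :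
    ∃ o ∈ O, o * x * o⁻¹ = y := by
  have := Fact.mk hp
  set π := QuotientGroup.mk' O with hπ
  set H : Subgroup R := (zpowers (π x)).comap π with hH
  have hOH : O ≤ H := by
    intro o ho
    rw [hH, mem_comap]
    have : π o = 1 := (QuotientGroup.eq_one_iff o).2 ho
    rw [this]
    exact one_mem _
  have hxH : x ∈ H := by rw [hH, mem_comap]; exact mem_zpowers _
  have hyH : y ∈ H := by rw [hH, mem_comap, ← hxy]; exact mem_zpowers _
  have hcard : ¬ p ^ 2 ∣ Nat.card H := by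
    have h1 : Nat.card H = Nat.card O * O.relIndex H := by
      rw [Subgroup.relIndex, mul_comm]
      have h2 := Subgroup.card_mul_index (O.subgroupOf H)
      rw [Nat.card_congr (Subgroup.subgroupOfEquivOfLe hOH).toEquiv, mul_comm] at h2
      exact h2.symm
    have h3 : O.relIndex H ∣ p := by
      have h4 := Subgroup.relIndex_ker H π
      rw [hπ, QuotientGroup.ker_mk', ← hπ] at h4
      rw [h4]
      have h6 : H.map π ≤ zpowers (π x) := by
        rw [hH]
        exact Subgroup.map_comap_le _ _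
      refine (Subgroup.card_dvd_of_le h6).trans ?_
      rw [Nat.card_zpowers, ← hx]
      exact orderOf_map_dvd π x
    intro h
    rw [h1, pow_two] at h
    have h7 : (p * p).Coprime (Nat.card O) :=
      Nat.Coprime.mul_left ((Nat.Prime.coprime_iff_not_dvd hp).2 hpO) ((Nat.Prime.coprime_iff_not_dvd hp).2 hpO)
    have h8 := (h7.dvd_of_dvd_mul_left h).trans h3
    have h9 := Nat.le_of_dvd hp.pos h8
    have := hp.one_lt
    nlinarith
  have hx' : orderOf (⟨x, hxH⟩ : H) = p := by rw [Subgroup.orderOf_mk, hx]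
  have hy' : orderOf (⟨y, hyH⟩ : H) = p := by rw [Subgroup.orderOf_mk, hy]
  obtain ⟨g, hg⟩ := conj_of_cyclic (fun S => cyclic_of_sq hcard S) hy' hx'
  -- `g x g⁻¹ ∈ ⟨y⟩`, and `g = o x ^ i`
  have hg1 : (g : R) * x * (g : R)⁻¹ ∈ zpowers y := by
    obtain ⟨j, hj⟩ := mem_zpowers_iff.1 hg
    exact mem_zpowers_iff.2 ⟨j, congrArg Subtype.val hj⟩
  obtain ⟨i, hi⟩ : ∃ i : ℤ, (π x) ^ i = π g := mem_zpowers_iff.1 g.2
  refine ⟨g * (x ^ i)⁻¹, ?_, ?_⟩
  · rw [← QuotientGroup.eq_one_iff (N := O)]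
    change π (g * (x ^ i)⁻¹) = 1
    rw [map_mul, map_inv, map_zpow, hi, mul_inv_cancel]
  · have h1 : g * (x ^ i)⁻¹ * x * (g * (x ^ i)⁻¹)⁻¹ = (g : R) * x * (g : R)⁻¹ := by
      have h2 : (x ^ i)⁻¹ * x * x ^ i = x := by
        rw [mul_assoc, ← zpow_one_add, add_comm, zpow_add_one, ← mul_assoc, inv_mul_cancel, one_mul]
      calc g * (x ^ i)⁻¹ * x * (g * (x ^ i)⁻¹)⁻¹ = g * ((x ^ i)⁻¹ * x * x ^ i) * (g : R)⁻¹ := by group
        _ = _ := by rw [h2]
    rw [h1]
    obtain ⟨j, hj⟩ := mem_zpowers_iff.1 hg1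
    rw [← hj]
    -- modulo `O`: `y ^ j = y`
    have h3 : π (y ^ j) = π y := by
      rw [hj, map_mul, map_mul, map_inv, ← hi, ← hxy]
      group
    have h4 : orderOf (π y) = p := by
      have h5 : orderOf (π y) ∣ p := by rw [← hy]; exact orderOf_map_dvd π y
      rcases (Nat.dvd_prime hp).1 h5 with h6 | h6
      · exfalso
        have h7 : y ∈ O := (QuotientGroup.eq_one_iff y).1 (orderOf_eq_one_iff.1 h6)
        have h8 := Subgroup.orderOf_dvd_natCard O h7
        rw [hy] at h8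
        exact hpO h8
      · exact h6
    have h5 : (π y) ^ (j - 1) = 1 := by
      rw [zpow_sub_one, ← map_zpow, h3, mul_inv_cancel]
    have h6 : (orderOf y : ℤ) ∣ j - 1 := by
      rw [hy, ← h4]
      exact orderOf_dvd_iff_zpow_eq_one.2 h5
    have h7 : y ^ (j - 1) = 1 := orderOf_dvd_iff_zpow_eq_one.1 h6
    rw [zpow_sub_one] at h7
    exact mul_inv_eq_one.1 h7

omit [Finite R] in
/-- elements of prime order lift -/
theorem exists_lift_prime (O : Subgroup R) [hO : O.Normal] {p : ℕ} {q : R ⧸ O} (hq : orderOf q = p)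
    (hpO : p.Coprime (Nat.card O)) : ∃ x : R, QuotientGroup.mk' O x = q ∧ orderOf x = p := by
  obtain ⟨y, rfl⟩ := QuotientGroup.mk'_surjective O q
  have h1 : (y ^ p) ^ Nat.card O = 1 := by
    have h2 : y ^ p ∈ O := by
      rw [← QuotientGroup.eq_one_iff (N := O)]
      change QuotientGroup.mk' O (y ^ p) = 1
      rw [map_pow, ← hq, pow_orderOf_eq_one]
    have h3 := pow_card_eq_one' (x := (⟨y ^ p, h2⟩ : O))
    exact congrArg Subtype.val h3
  obtain ⟨k, hk⟩ := exists_pow_eq_self_of_coprime (x := QuotientGroup.mk' O y) (n := Nat.card O)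
    (by rw [hq]; exact hpO.symm)
  refine ⟨(y ^ Nat.card O) ^ k, by rw [map_pow, map_pow, hk], ?_⟩
  have h4 : ((y ^ Nat.card O) ^ k) ^ p = 1 := by
    rw [← pow_mul, ← pow_mul, mul_comm k p, ← mul_assoc, mul_comm (Nat.card O) p, pow_mul, pow_mul, h1, one_pow]
  have h5 : orderOf ((y ^ Nat.card O) ^ k) ∣ p := orderOf_dvd_of_pow_eq_one h4
  have h6 : p ∣ orderOf ((y ^ Nat.card O) ^ k) := by
    rw [← hq]
    nth_rw 1 [← hk]
    rw [← map_pow, ← map_pow]
    exact orderOf_map_dvd _ _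
  exact Nat.dvd_antisymm h5 h6

/-- **Coprime lifting**: centralizers -/
theorem lift_cent (O : Subgroup R) [hO : O.Normal] {p : ℕ} (hp : p.Prime) (hpO : ¬ p ∣ Nat.card O) {q : R ⧸ O}
    (hq : orderOf q = p) : ∃ x : R, QuotientGroup.mk' O x = q ∧ orderOf x = p ∧
      (∀ c : R ⧸ O, Commute c q → ∃ g : R, QuotientGroup.mk' O g = c ∧ Commute g x) ∧
      Nat.card (centralizer ({q} : Set (R ⧸ O))) ∣ Nat.card (centralizer ({x} : Set R)) := by
  obtain ⟨x, hx, hxo⟩ := exists_lift_prime O hq ((Nat.Prime.coprime_iff_not_dvd hp).2 hpO)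
  have key : ∀ c : R ⧸ O, Commute c q → ∃ g : R, QuotientGroup.mk' O g = c ∧ Commute g x := by
    intro c hc
    obtain ⟨g, rfl⟩ := QuotientGroup.mk'_surjective O c
    have h1 : QuotientGroup.mk' O (g * x * g⁻¹) = QuotientGroup.mk' O x := by
      rw [map_mul, map_mul, map_inv, hx, hc.eq, mul_inv_cancel_right]
    obtain ⟨o, ho, hox⟩ := lift_conj O hp hpO (x := g * x * g⁻¹) (y := x)
      (by rw [← hxo]; exact orderOf_mulEquiv (MulAut.conj g) x) hxo h1
    refine ⟨o * g, ?_, ?_⟩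
    · rw [map_mul]
      have : QuotientGroup.mk' O o = 1 := (QuotientGroup.eq_one_iff o).2 ho
      rw [this, one_mul]
    · show o * g * x = x * (o * g)
      calc o * g * x = (o * (g * x * g⁻¹) * o⁻¹) * (o * g) := by group
        _ = _ := by rw [hox]
  refine ⟨x, hx, hxo, key, ?_⟩
  have h2 : (centralizer ({x} : Set R)).map (QuotientGroup.mk' O) = centralizer ({q} : Set (R ⧸ O)) := by
    ext c
    rw [mem_map, mem_centralizer_singleton_iff]
    constructor
    · rintro ⟨g, hg, rfl⟩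
      rw [← hx, ← map_mul, ← map_mul, mem_centralizer_singleton_iff.1 hg]
    · intro hc
      obtain ⟨g, hg, hgx⟩ := key c hc
      exact ⟨g, mem_centralizer_singleton_iff.2 hgx.eq, hg⟩
  rw [← h2]
  exact Subgroup.card_map_dvd _ _

end lift

/-! ### The core -/

section core

variable {R : Type*} [Group R] [Finite R]

/-- a prime `s ∣ |O|` not adjacent to `r` -/
theorem core_pow (O : Subgroup R) [O.Normal] {r s : ℕ} (hr : r.Prime) (hs : s.Prime) (hrs : r ≠ s)
    (hd : r ∣ Nat.card R) (hrO : ¬ r ∣ Nat.card O) (hsO : s ∣ Nat.card O) (hno : ∀ z : R, orderOf z ≠ r * s) :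
    ∃ b, 1 ≤ b ∧ s ^ b ∣ Nat.card O ∧ s ^ b % r = 1 ∧ ¬ s ^ (b + 1) ∣ Nat.card O := by
  have hr' : Fact r.Prime := ⟨hr⟩
  have hs' : Fact s.Prime := ⟨hs⟩
  obtain ⟨S⟩ : Nonempty (Sylow s O) := inferInstance
  obtain ⟨y, hy, hyS⟩ := exists_normalizer hd O hrO S
  set P : Subgroup R := (S : Subgroup O).map O.subtype with hP
  have hPp : IsPGroup s P := S.isPGroup'.map _
  have hPc : Nat.card P = Nat.card S := by
    rw [hP, Subgroup.card_map_of_injective O.subtype_injective]
  have hSc := S.card_eq_multiplicity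
  have h4 : 1 ≤ (Nat.card O).factorization s := by
    have := (hs.pow_dvd_iff_le_factorization (k := 1) (n := Nat.card O) Nat.card_pos.ne').1 (by rwa [pow_one])
    exact this
  refine ⟨(Nat.card O).factorization s, h4, ?_, ?_, ?_⟩
  · exact (hs.pow_dvd_iff_le_factorization Nat.card_pos.ne').2 le_rfl
  · by_contra hne
    obtain ⟨w, -, hw, hyw⟩ := exists_comm_of_normalizer hr hs hy hPp hyS (by rw [hPc, hSc]; exact hne)
    exact hno _ (orderOf_mul_of_comm hr hs hrs hy hw hyw)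
  · intro h
    have := (hs.pow_dvd_iff_le_factorization Nat.card_pos.ne').1 h
    omega

/-- a `p`-group acting on a finite set with all orbits of length divisible by `m` -/
theorem dvd_card_of_orbits {Q X : Type*} [Group Q] [MulAction Q X] [Finite X] {m : ℕ}
    (h : ∀ x : X, m ∣ Nat.card (MulAction.orbit Q x)) : m ∣ Nat.card X := by
  classical
  have := Fintype.ofFinite X
  have := Fintype.ofFinite (Quotient (MulAction.orbitRel Q X))
  rw [Nat.card_congr (MulAction.selfEquivSigmaOrbits Q X), Nat.card_sigma]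
  exact Finset.dvd_sum fun ω _ => h _

/-- a subgroup of order `p ^ 3` normalising an `s`-group -/
theorem card_mod_of_normalizer {p s : ℕ} (hp : p.Prime) (hs : s.Prime) {Q P : Subgroup R} (hQ : Nat.card Q = p ^ 3)
    (hP : IsPGroup s P) (hQP : Q ≤ normalizer (P : Set R))
    (hc : ∀ z : R, orderOf z = s → ¬ p ^ 2 ∣ Nat.card (centralizer ({z} : Set R))) :
    p ^ 2 ∣ Nat.card P - 1 := by
  classical
  have hp' := Fact.mk hp
  have hs' := Fact.mk hs
  have hconj : ∀ (q : Q) (z : R), z ∈ (P : Set R) \ {1} → (q : R) * z * (q : R)⁻¹ ∈ (P : Set R) \ {1} := by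
    rintro q z ⟨hz, hz1⟩
    refine ⟨(mem_normalizer_iff.1 (hQP q.2) z).1 hz, fun h => hz1 ?_⟩
    rw [Set.mem_singleton_iff] at h ⊢
    rw [mul_inv_eq_one] at h
    exact mul_left_cancel (h.trans (mul_one _).symm)
  -- the action on `P ∖ 1`
  let act : MulAction Q ↥((P : Set R) \ {1}) :=
    { smul := fun q z => ⟨(q : R) * z.1 * (q : R)⁻¹, hconj q z.1 z.2⟩
      one_smul := fun z => Subtype.ext (by show (1 : R) * z.1 * (1 : R)⁻¹ = z.1; simp)
      mul_smul := fun a b z => Subtype.ext (by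
        show ((a * b : Q) : R) * z.1 * ((a * b : Q) : R)⁻¹ = a * (b * z.1 * (b : R)⁻¹) * (a : R)⁻¹
        rw [Subgroup.coe_mul]; group) }
  have hsm : ∀ (q : Q) (z : ↥((P : Set R) \ {1})), ((q • z : ↥((P : Set R) \ {1})) : R) = q * z.1 * (q : R)⁻¹ :=
    fun _ _ => rfl
  have hX : Nat.card ↥((P : Set R) \ {1}) = Nat.card P - 1 := by
    rw [Nat.card_coe_set_eq, Set.ncard_sdiff_singleton_of_mem (one_mem P)]
    rfl
  rw [← hX]
  refine dvd_card_of_orbits (Q := Q) fun z => ?_
  obtain ⟨z, hzP, hz1⟩ := z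
  set Z : ↥((P : Set R) \ {1}) := ⟨z, hzP, hz1⟩ with hZ
  -- a power of order `s`
  obtain ⟨k, hk⟩ : ∃ k : ℕ, orderOf (z ^ k) = s := by
    obtain ⟨a, ha⟩ := (IsPGroup.iff_orderOf.1 hP) ⟨z, hzP⟩
    rw [Subgroup.orderOf_mk] at ha
    have ha0 : a ≠ 0 := by
      rintro rfl
      rw [pow_zero, orderOf_eq_one_iff] at ha
      exact hz1 ha
    obtain ⟨c, rfl⟩ := Nat.exists_eq_succ_of_ne_zero ha0
    refine ⟨s ^ c, ?_⟩
    rw [orderOf_pow_of_dvd (pow_ne_zero _ hs.ne_zero) (by rw [ha]; exact pow_dvd_pow s (Nat.le_succ c)), ha,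
      Nat.pow_div (Nat.le_succ c) hs.pos]
    simp
  have h1 : Nat.card (MulAction.orbit Q Z) * Nat.card (MulAction.stabilizer Q Z) = Nat.card Q := by
    rw [Nat.card_coe_set_eq, ← MulAction.index_stabilizer, mul_comm, Subgroup.card_mul_index]
  have h2 : Nat.card (MulAction.stabilizer Q Z) ∣ Nat.card (centralizer ({z ^ k} : Set R)) := by
    have h3 : (MulAction.stabilizer Q Z).map Q.subtype ≤ centralizer ({z ^ k} : Set R) := by
      rintro _ ⟨q, hq, rfl⟩
      rw [mem_centralizer_singleton_iff]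
      have h4 : (q : R) * z * (q : R)⁻¹ = z := by
        have h5 : q • Z = Z := hq
        have h6 := congrArg Subtype.val h5
        rwa [hsm] at h6
      have h5 : Commute (q : R) z := mul_inv_eq_iff_eq_mul.1 h4
      exact (h5.pow_right k).eq
    have h4 := Subgroup.card_dvd_of_le h3
    rwa [Subgroup.card_map_of_injective Q.subtype_injective] at h4
  have h3 : ¬ p ^ 2 ∣ Nat.card (MulAction.stabilizer Q Z) := fun h => hc _ hk (h.trans h2)
  have h4 : Nat.card (MulAction.stabilizer Q Z) ∣ p ^ 3 := by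
    rw [← hQ]
    exact Subgroup.card_subgroup_dvd_card _
  obtain ⟨j, hj, hj'⟩ := (Nat.dvd_prime_pow hp).1 h4
  have hj1 : j ≤ 1 := by
    by_contra hlt
    exact h3 (hj' ▸ pow_dvd_pow p (by omega))
  have h5 : Nat.card (MulAction.orbit Q Z) * p ^ j = p ^ 3 := by
    rw [← hj', ← hQ]
    exact h1
  have h6 : p ^ 3 = p ^ (3 - j) * p ^ j := by rw [← pow_add]; congr 1; omega
  rw [h6] at h5
  rw [Nat.eq_of_mul_eq_mul_right (pow_pos hp.pos j) h5]
  exact pow_dvd_pow p (by omega)

/-- **the core, by a subgroup of order `p ^ 3`** -/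
theorem core_false (O : Subgroup R) [hO : O.Normal] {p s : ℕ} (hp : p.Prime) (hs : s.Prime)
    (hd : p ^ 3 ∣ Nat.card R) (hpO : ¬ p ∣ Nat.card O) (hsO : s ∣ Nat.card O)
    (hc : ∀ z : R, orderOf z = s → ¬ p ^ 2 ∣ Nat.card (centralizer ({z} : Set R)))
    (hb : ∀ b, 1 ≤ b → s ^ b ∣ Nat.card O → ¬ p ^ 2 ∣ s ^ b - 1) : False := by
  have hs' : Fact s.Prime := ⟨hs⟩
  have hp' : Fact p.Prime := ⟨hp⟩
  obtain ⟨S⟩ : Nonempty (Sylow s O) := inferInstance
  set P : Subgroup R := (S : Subgroup O).map O.subtype with hP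
  have hPp : IsPGroup s P := S.isPGroup'.map _
  have hPc : Nat.card P = Nat.card S := by
    rw [hP, Subgroup.card_map_of_injective O.subtype_injective]
  have hSc := S.card_eq_multiplicity
  have h4 : 1 ≤ (Nat.card O).factorization s := by
    have := (hs.pow_dvd_iff_le_factorization (k := 1) (n := Nat.card O) Nat.card_pos.ne').1 (by rwa [pow_one])
    exact this
  have hfr := Sylow.normalizer_sup_eq_top S
  have hN : p ^ 3 ∣ Nat.card (normalizer (P : Set R)) := by
    have h3 : O.relIndex (normalizer (P : Set R) ⊔ O) = O.relIndex (normalizer (P : Set R)) :=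
      Subgroup.relIndex_sup_right _ _
    rw [hfr, Subgroup.relIndex_top_right] at h3
    have h5 : p ^ 3 ∣ O.index := by
      have h6 : p ^ 3 ∣ Nat.card O * O.index := by rw [Subgroup.card_mul_index]; exact hd
      exact (Nat.Coprime.pow_left 3 ((Nat.Prime.coprime_iff_not_dvd hp).2 hpO)).dvd_of_dvd_mul_left h6
    rw [h3] at h5
    exact h5.trans (Subgroup.relIndex_dvd_card _ _)
  obtain ⟨Q, hQ⟩ := Sylow.exists_subgroup_card_pow_prime p hN
  have hQc : Nat.card (Q.map (normalizer (P : Set R)).subtype) = p ^ 3 := by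
    rw [Subgroup.card_map_of_injective (Subgroup.subtype_injective _), hQ]
  have h7 := card_mod_of_normalizer hp hs hQc hPp (Subgroup.map_subtype_le Q) hc
  rw [hPc, hSc] at h7
  exact hb _ h4 ((hs.pow_dvd_iff_le_factorization Nat.card_pos.ne').2 le_rfl) h7

end core

end Cfsg.Agent.H149.Der
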