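import Cfsg.Agent.H503.El.O83Main
import Cfsg.Agent.Lib.PGroupFixedVector

/-!
# `PΩ⁺₈(3)`: elements of order 7 (helper149)

* `cent_seven` : centralizers and normalizers of the subgroups of order 7
* `no_three` : a subgroup of order 7 normalizes no non-trivial 3-subgroup
-/

set_option autoImplicit false
set_option linter.unusedSectionVars false
set_option linter.style.haveILetI false

namespace Cfsg.Agent.H149.Der.O8

open Module QuadraticMap Cfsg.Agent.H182.Cent Cfsg.Agent.H134.CentPow Cfsg.Agent.H134.OmegaThree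
open Cfsg.Agent.ClassicalGeometry.SpinorSign Cfsg.Agent.ClassicalGeometry.OmegaIndex
open Cfsg.Agent.LieClassical.OrthForms

section

variable {F : Type} [Field F] [Fintype F] {ι : Type} [Fintype ι] [DecidableEq ι]

/-- The data used. -/
structure Dat7 (Q : QuadraticForm F (ι → F)) : Prop where
  dat : Dat Q
  dim : Fintype.card ι = 8
  zero7 : Nat.card {v : ι → F // Q v = 0} % 7 = 1
  one7 : Nat.card {v : ι → F // Q v = 1} % 7 = 4

variable {Q : QuadraticForm F (ι → F)} {x : Cfsg.Omega F ⇑Q}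

theorem Dat7.seven_ne (D : Dat7 Q) : ((7 : ℕ) : F) ≠ 0 := by
  intro h
  have h3 := D.dat.three
  have h1 : (1 : F) = 0 := by
    have h4 : (7 : F) = 0 := by exact_mod_cast h
    linear_combination h4 - 2 * h3
  exact one_ne_zero h1

theorem Dat7.finrank (D : Dat7 Q) : finrank F (ι → F) = 8 := by
  rw [Module.finrank_fintype_fun_eq_card, D.dim]

theorem Dat7.isoP (D : Dat7 Q) (hx : x ^ 7 = 1) (hx1 : x ≠ 1) : IsoP (sform_polar Q) (rho (⇑Q) x) 7 where
  nondeg := D.dat.nd
  isom := rho_polar Q x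
  prime := by norm_num
  ne_two := by norm_num
  pow := by rw [← map_pow, hx, map_one]
  char := D.seven_ne
  ne_one := fun h1 => hx1 (rho_injective _ (by rw [h1, map_one]))

/-- invariant subspaces without fixed vectors -/
theorem Dat7.inv_dim (D : Dat7 Q) (hx : x ^ 7 = 1) {Z : Submodule F (ι → F)} (hZ : Inv (rho (⇑Q) x) Z)
    (hfix : ∀ z ∈ Z, rho (⇑Q) x z = z → z = 0) : Module.finrank F Z = 0 ∨ Module.finrank F Z = 6 := by
  have hxr : (rho (⇑Q) x) ^ 7 = 1 := by rw [← map_pow, hx, map_one]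
  have hdvd := dvd_pow_sub_one (by norm_num : Nat.Prime 7) hxr hZ hfix
  rw [D.dat.card] at hdvd
  have hle : Module.finrank F Z ≤ Module.finrank F (ι → F) := Submodule.finrank_le Z
  rw [D.finrank] at hle
  generalize Module.finrank F Z = n at *
  interval_cases n
  all_goals first | (left; rfl) | (right; rfl) | omega

theorem Dat7.finrank_Y (D : Dat7 Q) (hx : x ^ 7 = 1) (hx1 : x ≠ 1) :
    Module.finrank F (IsoP.Y (sform_polar Q) (rho (⇑Q) x)) = 6 := by
  have hX := D.isoP hx hx1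
  rcases D.inv_dim hx hX.invY (fun z hz => hX.fixY hz) with h | h
  · exact absurd (Submodule.finrank_eq_zero.1 h) hX.Y_ne_bot
  · exact h

theorem Dat7.finrank_N (D : Dat7 Q) (hx : x ^ 7 = 1) (hx1 : x ≠ 1) :
    Module.finrank F (fixS (rho (⇑Q) x)) = 2 := by
  have h1 := (D.isoP hx hx1).finrank_add
  rw [D.finrank_Y hx hx1, D.finrank] at h1
  omega

/-- `Y` is irreducible -/
theorem Dat7.irr (D : Dat7 Q) (hx : x ^ 7 = 1) (hx1 : x ≠ 1) {Z : Submodule F (ι → F)} (hZ : Inv (rho (⇑Q) x) Z)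
    (hle : Z ≤ IsoP.Y (sform_polar Q) (rho (⇑Q) x)) : Z = ⊥ ∨ Z = IsoP.Y (sform_polar Q) (rho (⇑Q) x) := by
  have hX := D.isoP hx hx1
  rcases D.inv_dim hx hZ (fun z hz => hX.fixY (hle hz)) with h | h
  · exact Or.inl (Submodule.finrank_eq_zero.1 h)
  · exact Or.inr (Submodule.eq_of_le_of_finrank_eq hle (by rw [h, D.finrank_Y hx hx1]))

/-- the fixed points of `x` on the vectors of norm `e` -/
theorem Dat7.count (D : Dat7 Q) (hx : x ^ 7 = 1) (e : F) :
    Nat.card {v : ι → F // Q v = e ∧ rho (⇑Q) x v = v} % 7 = Nat.card {v : ι → F // Q v = e} % 7 := by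
  classical
  haveI : Fact (Nat.Prime 7) := ⟨by norm_num⟩
  let f : Function.End {v : ι → F // Q v = e} := fun v => ⟨rho (⇑Q) x v, by rw [rho_isometry, v.2]⟩
  have hf : ∀ (k : ℕ) (v : {v : ι → F // Q v = e}), (((f ^ k) v : {v : ι → F // Q v = e}) : ι → F) =
      ((rho (⇑Q) x) ^ k) v := by
    intro k
    induction k with
    | zero => intro v; rfl
    | succ k ih =>
      intro v
      rw [pow_succ, pow_succ]
      change (((f ^ k) (f v) : {v : ι → F // Q v = e}) : ι → F) = _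
      rw [ih]
      rfl
  have hxr : (rho (⇑Q) x) ^ 7 = 1 := by rw [← map_pow, hx, map_one]
  have hf13 : f ^ 7 ^ 1 = 1 := by
    rw [pow_one]
    funext v
    apply Subtype.ext
    rw [hf, hxr]
    rfl
  have h1 := Equiv.Perm.card_fixedPoints_modEq hf13
  have h2 : Fintype.card (Function.fixedPoints f) = Nat.card {v : ι → F // Q v = e ∧ rho (⇑Q) x v = v} := by
    rw [← Nat.card_eq_fintype_card]
    refine Nat.card_congr ⟨fun v => ⟨v.1.1, v.1.2, congrArg Subtype.val v.2⟩,
      fun v => ⟨⟨v.1, v.2.1⟩, Subtype.ext v.2.2⟩, fun v => rfl, fun v => rfl⟩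
  rw [h2, ← Nat.card_eq_fintype_card] at h1
  exact h1.symm

/-- the fixed space is anisotropic -/
theorem Dat7.aniso (D : Dat7 Q) (hx : x ^ 7 = 1) (hx1 : x ≠ 1) {v : ι → F} (hv : rho (⇑Q) x v = v) (h0 : Q v = 0) :
    v = 0 := by
  classical
  by_contra hne
  have hc0 := D.count hx 0
  have hc1 := D.count hx 1
  rw [D.zero7] at hc0
  rw [D.one7] at hc1
  have hvv : v ≠ -v := by
    intro h
    apply hne
    have h3 : (2 : F) • v = 0 := by
      rw [two_smul]
      nth_rw 2 [h]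
      exact add_neg_cancel v
    exact (smul_eq_zero.1 h3).resolve_left D.dat.two_ne
  -- three fixed singular vectors
  have h3 : 3 ≤ Nat.card {w : ι → F // Q w = 0 ∧ rho (⇑Q) x w = w} := by
    let g : Fin 3 → {w : ι → F // Q w = 0 ∧ rho (⇑Q) x w = w} :=
      ![⟨0, map_zero Q, map_zero _⟩, ⟨v, h0, hv⟩, ⟨-v, by rw [QuadraticMap.map_neg, h0], by rw [map_neg, hv]⟩]
    have hg : Function.Injective g := by
      intro i j hij
      have h4 := congrArg Subtype.val hij
      fin_cases i <;> fin_cases j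
      · rfl
      · exact absurd h4.symm hne
      · exact absurd (neg_eq_zero.1 h4.symm) hne
      · exact absurd h4 hne
      · rfl
      · exact absurd h4 hvv
      · exact absurd (neg_eq_zero.1 h4) hne
      · exact absurd h4.symm hvv
      · rfl
    have h5 := Nat.card_le_card_of_injective g hg
    rwa [Nat.card_fin] at h5
  -- all the fixed vectors
  have h9 : Nat.card ({w : ι → F // Q w = 0 ∧ rho (⇑Q) x w = w} ⊕ {w : ι → F // Q w = 1 ∧ rho (⇑Q) x w = w}) ≤ 9 := by
    have h4 : Nat.card ({w : ι → F // Q w = 0 ∧ rho (⇑Q) x w = w} ⊕ {w : ι → F // Q w = 1 ∧ rho (⇑Q) x w = w}) ≤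
        Nat.card (fixS (rho (⇑Q) x)) := by
      refine Nat.card_le_card_of_injective
        (Sum.elim (fun w => ⟨w.1, mem_fixS.2 w.2.2⟩) (fun w => ⟨w.1, mem_fixS.2 w.2.2⟩)) ?_
      rintro (a | a) (b | b) hab
      · have := congrArg Subtype.val hab
        exact congrArg Sum.inl (Subtype.ext this)
      · exfalso
        have h6 : (a : ι → F) = b := congrArg Subtype.val hab
        have h7 := a.2.1
        rw [h6, b.2.1] at h7
        exact one_ne_zero h7
      · exfalso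
        have h6 : (a : ι → F) = b := congrArg Subtype.val hab
        have h7 := a.2.1
        rw [h6, b.2.1] at h7
        exact one_ne_zero h7.symm
      · have := congrArg Subtype.val hab
        exact congrArg Sum.inr (Subtype.ext this)
    refine h4.trans ?_
    rw [Module.natCard_eq_pow_finrank (K := F), D.dat.card, D.finrank_N hx hx1]
    norm_num
  rw [Nat.card_sum] at h9
  omega

/-- endomorphisms of square `1` commuting with `x` are signs on `Y` -/
theorem Dat7.sgn (D : Dat7 Q) (hx : x ^ 7 = 1) (hx1 : x ≠ 1) {h : Module.End F (ι → F)} (hh : Commute h (rho (⇑Q) x))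
    (hY : ∀ v ∈ IsoP.Y (sform_polar Q) (rho (⇑Q) x), h v ∈ IsoP.Y (sform_polar Q) (rho (⇑Q) x))
    (h2 : ∀ v ∈ IsoP.Y (sform_polar Q) (rho (⇑Q) x), h (h v) = v) :
    (∀ v ∈ IsoP.Y (sform_polar Q) (rho (⇑Q) x), h v = v) ∨ ∀ v ∈ IsoP.Y (sform_polar Q) (rho (⇑Q) x), h v = -v := by
  have hX := D.isoP hx hx1
  have hinv : Inv (rho (⇑Q) x) (LinearMap.ker (h - 1) ⊓ IsoP.Y (sform_polar Q) (rho (⇑Q) x)) :=
    (inv_ker (hh.sub_left (Commute.one_left _))).inf hX.invY
  rcases D.irr hx hx1 hinv inf_le_right with h3 | h3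
  · right
    intro v hv
    have h4 : v + h v ∈ LinearMap.ker (h - 1) ⊓ IsoP.Y (sform_polar Q) (rho (⇑Q) x) := by
      refine ⟨?_, Submodule.add_mem _ hv (hY v hv)⟩
      change h (v + h v) - (v + h v) = 0
      rw [map_add, h2 v hv, add_comm]
      exact sub_self _
    rw [h3, Submodule.mem_bot] at h4
    exact eq_neg_of_add_eq_zero_right h4
  · left
    intro v hv
    rw [← h3] at hv
    have h4 : h v - v = 0 := hv.1
    exact sub_eq_zero.1 h4

theorem Dat7.mem_Y (D : Dat7 Q) (hx : x ^ 7 = 1) (hx1 : x ≠ 1) {a : Cfsg.Omega F ⇑Q} (ha : Commute a x) :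
    ∀ v ∈ IsoP.Y (sform_polar Q) (rho (⇑Q) x), rho (⇑Q) a v ∈ IsoP.Y (sform_polar Q) (rho (⇑Q) x) :=
  (D.isoP hx hx1).inv_Y (ha.map (rho ⇑Q)) (rho_polar Q a)

theorem mem_N {a : Cfsg.Omega F ⇑Q} (ha : Commute a x) {v : ι → F} (hv : v ∈ fixS (rho (⇑Q) x)) :
    rho (⇑Q) a v ∈ fixS (rho (⇑Q) x) := by
  rw [mem_fixS] at hv ⊢
  have h1 : (rho (⇑Q) x * rho (⇑Q) a) v = (rho (⇑Q) a * rho (⇑Q) x) v := by rw [← map_mul, ← map_mul, ha.eq]
  rw [Module.End.mul_apply, Module.End.mul_apply, hv] at h1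
  exact h1

theorem Dat7.dec (D : Dat7 Q) (hx : x ^ 7 = 1) (hx1 : x ≠ 1) (v : ι → F) :
    ∃ a ∈ fixS (rho (⇑Q) x), ∃ b ∈ IsoP.Y (sform_polar Q) (rho (⇑Q) x), a + b = v := by
  have hv : v ∈ fixS (rho (⇑Q) x) ⊔ IsoP.Y (sform_polar Q) (rho (⇑Q) x) := by
    rw [(D.isoP hx hx1).compl.2.sup_eq_top]; exact Submodule.mem_top
  exact Submodule.mem_sup.1 hv

/-- an involution of `Ω` trivial on `Y` is `±1` on the fixed space -/
theorem Dat7.invol (D : Dat7 Q) (hx : x ^ 7 = 1) (hx1 : x ≠ 1) {t : Cfsg.Omega F ⇑Q} (ht : t * t = 1)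
    (hc : Commute t x) (hs : ∀ v ∈ IsoP.Y (sform_polar Q) (rho (⇑Q) x), rho (⇑Q) t v = v) :
    t = 1 ∨ ∀ v ∈ fixS (rho (⇑Q) x), rho (⇑Q) t v = -v := by
  have hX := D.isoP hx hx1
  set T := rho (⇑Q) t with hT
  have hTT : T * T = 1 := by rw [hT, ← map_mul, ht, map_one]
  have hTv : ∀ v, T (T v) = v := fun v => by rw [← Module.End.mul_apply, hTT]; rfl
  have h2 := D.dat.two_ne
  let Ep : Submodule F (ι → F) := LinearMap.ker (T - 1)
  let Em : Submodule F (ι → F) := LinearMap.ker (T + 1)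
  have hEp : ∀ v, v ∈ Ep ↔ T v = v := fun v => by
    rw [LinearMap.mem_ker, LinearMap.sub_apply, sub_eq_zero]; rfl
  have hEm : ∀ v, v ∈ Em ↔ T v = -v := fun v => by
    rw [LinearMap.mem_ker, LinearMap.add_apply, add_eq_zero_iff_eq_neg]; rfl
  have hcompl : IsCompl Ep Em := by
    refine ⟨?_, ?_⟩
    · rw [disjoint_iff, Submodule.eq_bot_iff]
      rintro v ⟨h3, h4⟩
      have h3' := (hEp v).1 h3
      have h4' := (hEm v).1 h4
      rw [h3'] at h4'
      have h5 : (2 : F) • v = 0 := by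
        rw [two_smul]
        nth_rw 2 [h4']
        exact add_neg_cancel v
      exact (smul_eq_zero.1 h5).resolve_left h2
    · rw [codisjoint_iff, Submodule.eq_top_iff']
      intro v
      refine Submodule.mem_sup.2 ⟨(2 : F)⁻¹ • (v + T v), ?_, (2 : F)⁻¹ • (v - T v), ?_, ?_⟩
      · rw [hEp, map_smul, map_add, hTv, add_comm]
      · rw [hEm, map_smul, map_sub, hTv, ← smul_neg, neg_sub]
      · rw [← smul_add, show v + T v + (v - T v) = (2 : F) • v by rw [two_smul]; abel, smul_smul,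
          inv_mul_cancel₀ h2, one_smul]
  have hdet : LinearMap.det T = 1 := by
    have h3 := ((mem_Omega_iff h2 Q D.dat.nondeg (by rcases D.dat.dim with h | h <;> omega) one_ne_zero
      (t : Cfsg.isometryGroup F ⇑Q)).1 t.2).1
    rw [← LinearMap.det_toLin'] at h3
    exact h3
  have heven : Even (Module.finrank F Em) := by
    have h3 := Cfsg.Agent.OddHalf.NI3.Bad.Lin.det_of_isCompl T hcompl (a := 1) (b := -1)
      (fun v hv => by rw [one_smul]; exact (hEp v).1 hv) (fun v hv => by rw [neg_one_smul]; exact (hEm v).1 hv)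
    rw [hdet, one_pow, one_mul] at h3
    by_contra hodd
    rw [Nat.not_even_iff_odd] at hodd
    rw [hodd.neg_one_pow] at h3
    exact h2 (by linear_combination h3)
  have hsum : Module.finrank F Ep + Module.finrank F Em = 8 := by
    rw [Submodule.finrank_add_eq_of_isCompl hcompl, D.finrank]
  have hY6 := D.finrank_Y hx hx1
  have hle : IsoP.Y (sform_polar Q) (rho (⇑Q) x) ≤ Ep := fun v hv => (hEp v).2 (hs v hv)
  have h6 := Submodule.finrank_mono hle
  by_cases h0 : Module.finrank F Em = 0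
  · left
    apply rho_injective (⇑Q)
    rw [map_one]
    apply LinearMap.ext
    intro v
    have h3 : Em = ⊥ := Submodule.finrank_eq_zero.1 h0
    have h4 : Ep = ⊤ := by
      have := hcompl.sup_eq_top
      rwa [h3, sup_bot_eq] at this
    have h5 : v ∈ Ep := by rw [h4]; exact Submodule.mem_top
    exact (hEp v).1 h5
  · right
    obtain ⟨k, hk⟩ := heven
    have hE : Module.finrank F Ep = 6 := by omega
    have hYE : IsoP.Y (sform_polar Q) (rho (⇑Q) x) = Ep :=
      Submodule.eq_of_le_of_finrank_eq hle (by rw [hY6, hE])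
    intro v hv
    have h3 : v + T v ∈ Ep := by rw [hEp, map_add, hTv, add_comm]
    rw [← hYE] at h3
    have h4 : v + T v = 0 :=
      hX.fixY h3 (mem_fixS.1 (Submodule.add_mem _ hv (mem_N hc hv)))
    exact eq_neg_of_add_eq_zero_right h4

/-- two elements of `Ω` of square `-1` commuting with `x`: the product is a sign on `Y` -/
theorem Dat7.two_sq (D : Dat7 Q) (hx : x ^ 7 = 1) (hx1 : x ≠ 1) {a b : Cfsg.Omega F ⇑Q} (ha : Commute a x)
    (hb : Commute b x) (ha2 : rho (⇑Q) a * rho (⇑Q) a = -1) (hb2 : rho (⇑Q) b * rho (⇑Q) b = -1)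
    (hab : rho (⇑Q) b * rho (⇑Q) a = rho (⇑Q) a * rho (⇑Q) b ∨ rho (⇑Q) b * rho (⇑Q) a = -(rho (⇑Q) a * rho (⇑Q) b)) :
    (∀ v ∈ IsoP.Y (sform_polar Q) (rho (⇑Q) x), rho (⇑Q) (a * b) v = v) ∨
      ∀ v ∈ IsoP.Y (sform_polar Q) (rho (⇑Q) x), rho (⇑Q) (a * b) v = -v := by
  have hX := D.isoP hx hx1
  set A := rho (⇑Q) a with hA
  set B := rho (⇑Q) b with hB
  have hA2 : ∀ v, A (A v) = -v := fun v => by rw [← Module.End.mul_apply, ha2]; rfl
  have hB2 : ∀ v, B (B v) = -v := fun v => by rw [← Module.End.mul_apply, hb2]; rfl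
  rcases hab with h | h
  · have hv : ∀ v, B (A v) = A (B v) := fun v => by rw [← Module.End.mul_apply, h]; rfl
    refine D.sgn hx hx1 ((ha.mul_left hb).map (rho ⇑Q)) (D.mem_Y hx hx1 (ha.mul_left hb)) fun v _ => ?_
    rw [map_mul, Module.End.mul_apply, Module.End.mul_apply, ← hA, ← hB, hv, hB2, map_neg, map_neg, hA2, neg_neg]
  · exfalso
    have hv : ∀ v, B (A v) = -A (B v) := fun v => by rw [← Module.End.mul_apply, h]; rfl
    have h3 : (3 : F) = 0 := D.dat.three
    have key := D.sgn hx hx1 (h := A + B) ((ha.map (rho ⇑Q)).add_left (hb.map (rho ⇑Q)))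
      (fun v hv => Submodule.add_mem _ (D.mem_Y hx hx1 ha v hv) (D.mem_Y hx hx1 hb v hv)) (fun v _ => by
        rw [LinearMap.add_apply, LinearMap.add_apply, map_add, map_add, hA2, hB2, hv]
        have h4 : (3 : F) • v = 0 := by rw [h3, zero_smul]
        have h5 : v + v + v = 0 := by
          rw [← h4]
          have : (3 : F) = 1 + 1 + 1 := by norm_num
          rw [this, add_smul, add_smul, one_smul]
        have h6 : -v + A (B v) + (-A (B v) + -v) = v - (v + v + v) := by abel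
        rw [h6, h5, sub_zero])
    obtain ⟨v, hv0, hv1⟩ := (Submodule.ne_bot_iff _).1 hX.Y_ne_bot
    -- `B = ± 1 - A` on `Y`
    obtain ⟨e, he⟩ : ∃ e : F, ∀ v ∈ IsoP.Y (sform_polar Q) (rho (⇑Q) x), A v + B v = e • v := by
      rcases key with key | key
      · exact ⟨1, fun v hv => by rw [one_smul]; exact key v hv⟩
      · exact ⟨-1, fun v hv => by rw [neg_one_smul]; exact key v hv⟩
    have h4 := he v hv0
    have h5 := he (A v) (D.mem_Y hx hx1 ha v hv0)
    have h6 : B (A v) = A (B v) := by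
      have h7 : B (A v) = e • A v - A (A v) := by rw [← h5]; abel
      have h8 : B v = e • v - A v := by rw [← h4]; abel
      rw [h7, h8, map_sub, map_smul]
    rw [hv] at h6
    have h7 : (2 : F) • A (B v) = 0 := by
      rw [two_smul]
      nth_rw 1 [← h6]
      exact neg_add_cancel _
    have h8 : A (B v) = 0 := (smul_eq_zero.1 h7).resolve_left D.dat.two_ne
    apply hv1
    have h9 : B v = 0 := by
      have := hA2 (B v)
      rw [h8, map_zero] at this
      exact neg_eq_zero.1 this.symm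
    have := hB2 v
    rw [h9, map_zero] at this
    exact neg_eq_zero.1 this.symm

/-! ### The projective group -/

/-- at most four involutions (and `1`) commuting with an element of order 7 form a group -/
theorem Dat7.card_le_four (D : Dat7 Q) {s : Cfsg.POmega F ⇑Q} (hs : orderOf s = 7)
    (E : Subgroup (Cfsg.POmega F ⇑Q)) (hE : ∀ e ∈ E, e * e = 1) (hc : ∀ e ∈ E, Commute e s) : Nat.card E ≤ 4 := by
  classical
  obtain ⟨x, hxs, hx⟩ := exists_lift D.dat.center_sq (by norm_num : Nat.Prime 7) (by norm_num) s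
    (by rw [← hs]; exact pow_orderOf_eq_one s)
  have hx1 : x ≠ 1 := by
    rintro rfl
    rw [← hxs, QuotientGroup.mk_one, orderOf_one] at hs
    omega
  have hX := D.isoP hx hx1
  obtain ⟨v0, hv0, hv1⟩ := (Submodule.ne_bot_iff _).1 hX.Y_ne_bot
  obtain ⟨z0, hz0⟩ := D.dat.neg D.dim
  have hz0c : z0 ∈ Subgroup.center (Cfsg.Omega F ⇑Q) := (D.dat.center z0).2 (Or.inr hz0)
  -- lifts commute with `x`
  have hcl : ∀ a : Cfsg.Omega F ⇑Q, (a : Cfsg.POmega F ⇑Q) ∈ E → Commute a x := by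
    intro a ha
    refine commute_lift D.dat.center_sq (by norm_num : Nat.Prime 7) (by norm_num) hx ?_
    rw [hxs]
    exact hc _ ha
  have hsq : ∀ a : Cfsg.Omega F ⇑Q, (a : Cfsg.POmega F ⇑Q) ∈ E →
      rho (⇑Q) a * rho (⇑Q) a = 1 ∨ rho (⇑Q) a * rho (⇑Q) a = -1 := by
    intro a ha
    rw [← map_mul, ← D.dat.center, ← QuotientGroup.eq_one_iff, QuotientGroup.mk_mul]
    exact hE _ ha
  let P : Cfsg.POmega F ⇑Q → Prop := fun e => ∃ a : Cfsg.Omega F ⇑Q, (a : Cfsg.POmega F ⇑Q) = e ∧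
    ∀ v ∈ IsoP.Y (sform_polar Q) (rho (⇑Q) x), rho (⇑Q) a v = v
  -- signs on `Y`
  have hP : ∀ a : Cfsg.Omega F ⇑Q, ((∀ v ∈ IsoP.Y (sform_polar Q) (rho (⇑Q) x), rho (⇑Q) a v = v) ∨
      ∀ v ∈ IsoP.Y (sform_polar Q) (rho (⇑Q) x), rho (⇑Q) a v = -v) → P (a : Cfsg.POmega F ⇑Q) := by
    rintro a (ha | ha)
    · exact ⟨a, rfl, ha⟩
    · refine ⟨z0 * a, ?_, fun v hv => ?_⟩
      · rw [QuotientGroup.mk_mul, (QuotientGroup.eq_one_iff z0).2 hz0c, one_mul]
      · rw [map_mul, Module.End.mul_apply, ha v hv, hz0]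
        exact neg_neg v
  have c1 : ∀ a : Cfsg.Omega F ⇑Q, (a : Cfsg.POmega F ⇑Q) ∈ E → ¬ P (a : Cfsg.POmega F ⇑Q) →
      rho (⇑Q) a * rho (⇑Q) a = -1 := by
    intro a ha hPa
    rcases hsq a ha with h | h
    · exfalso
      apply hPa
      apply hP
      exact D.sgn hx hx1 ((hcl a ha).map (rho ⇑Q)) (D.mem_Y hx hx1 (hcl a ha)) fun v _ => by
        rw [← Module.End.mul_apply, h]; rfl
    · exact h
  have c2 : ∀ e f : Cfsg.POmega F ⇑Q, e ∈ E → f ∈ E → P e → P f → e ≠ 1 → f ≠ 1 → e = f := by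
    have key : ∀ a : Cfsg.Omega F ⇑Q, (a : Cfsg.POmega F ⇑Q) ∈ E → (a : Cfsg.POmega F ⇑Q) ≠ 1 →
        (∀ v ∈ IsoP.Y (sform_polar Q) (rho (⇑Q) x), rho (⇑Q) a v = v) →
        ∀ v ∈ fixS (rho (⇑Q) x), rho (⇑Q) a v = -v := by
      intro a ha ha1 hY
      have h1 : a * a = 1 := by
        apply rho_injective (⇑Q)
        rw [map_mul, map_one]
        rcases hsq a ha with h | h
        · exact h
        · exfalso
          have h2 : (rho (⇑Q) a * rho (⇑Q) a) v0 = -v0 := by rw [h]; rfl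
          rw [Module.End.mul_apply, hY v0 hv0, hY v0 hv0] at h2
          apply hv1
          have h3 : (2 : F) • v0 = 0 := by
            rw [two_smul]
            nth_rw 2 [h2]
            exact add_neg_cancel v0
          exact (smul_eq_zero.1 h3).resolve_left D.dat.two_ne
      rcases D.invol hx hx1 h1 (hcl a ha) hY with h2 | h2
      · exfalso
        apply ha1
        rw [h2]
        rfl
      · exact h2
    rintro _ _ he hf ⟨a, rfl, ha⟩ ⟨b, rfl, hb⟩ he1 hf1
    have h1 := key a he he1 ha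
    have h2 := key b hf hf1 hb
    have h3 : a = b := by
      apply rho_injective (⇑Q)
      apply LinearMap.ext
      intro v
      obtain ⟨n, hn, y, hy, rfl⟩ := D.dec hx hx1 v
      rw [map_add, map_add, h1 n hn, h2 n hn, ha y hy, hb y hy]
    rw [h3]
  have c3 : ∀ e f : Cfsg.POmega F ⇑Q, e ∈ E → f ∈ E → ¬ P e → ¬ P f → P (e * f) := by
    intro e f he hf hPe hPf
    obtain ⟨a, rfl⟩ := QuotientGroup.mk_surjective e
    obtain ⟨b, rfl⟩ := QuotientGroup.mk_surjective f
    have ha2 := c1 a he hPe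
    have hb2 := c1 b hf hPf
    have hcomm : (b : Cfsg.POmega F ⇑Q) * a = a * b := by
      have h1 := hE _ (E.mul_mem he hf)
      have h2 := hE _ he
      have h3 := hE _ hf
      have h4 : ∀ y : Cfsg.POmega F ⇑Q, y * y = 1 → y⁻¹ = y := fun y hy => inv_eq_of_mul_eq_one_left hy
      rw [← h4 _ h1, mul_inv_rev, h4 _ h2, h4 _ h3]
    have hz : (b * a)⁻¹ * (a * b) ∈ Subgroup.center (Cfsg.Omega F ⇑Q) := by
      rw [← QuotientGroup.eq, QuotientGroup.mk_mul, QuotientGroup.mk_mul, hcomm]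
    have h5 : rho (⇑Q) a * rho (⇑Q) b = rho (⇑Q) b * rho (⇑Q) a * rho (⇑Q) ((b * a)⁻¹ * (a * b)) := by
      rw [← map_mul, ← map_mul, ← map_mul]
      congr 1
      group
    have h6 := D.two_sq hx hx1 (hcl a he) (hcl b hf) ha2 hb2 (by
      rcases (D.dat.center _).1 hz with h | h
      · left
        rw [h, mul_one] at h5
        exact h5.symm
      · right
        apply LinearMap.ext
        intro v
        have h7 := LinearMap.congr_fun h5 v
        rw [h] at h7
        have h8 : rho (⇑Q) a (rho (⇑Q) b v) = rho (⇑Q) b (rho (⇑Q) a (-v)) := h7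
        rw [map_neg, map_neg] at h8
        change rho (⇑Q) b (rho (⇑Q) a v) = -rho (⇑Q) a (rho (⇑Q) b v)
        rw [h8, neg_neg])
    rw [← QuotientGroup.mk_mul]
    exact hP _ h6
  -- counting
  obtain ⟨t, ht⟩ : ∃ t : Cfsg.POmega F ⇑Q, ∀ e ∈ E, P e → e = 1 ∨ e = t := by
    by_cases h : ∃ t ∈ E, P t ∧ t ≠ 1
    · obtain ⟨t, htE, htP, ht1⟩ := h
      refine ⟨t, fun e he hPe => ?_⟩
      by_cases he1 : e = 1
      · exact Or.inl he1
      · exact Or.inr (c2 e t he htE hPe htP he1 ht1)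
    · push Not at h
      exact ⟨1, fun e he hPe => Or.inl (h e he hPe)⟩
  obtain ⟨f, hf⟩ : ∃ f : Cfsg.POmega F ⇑Q, ∀ e ∈ E, ¬ P e → e = f ∨ e = t * f := by
    by_cases h : ∃ f ∈ E, ¬ P f
    · obtain ⟨f, hfE, hfP⟩ := h
      refine ⟨f, fun e he hPe => ?_⟩
      have h1 : f * f = 1 := hE f hfE
      rcases ht (e * f) (E.mul_mem he hfE) (c3 e f he hfE hPe hfP) with h2 | h2
      · left
        rw [← mul_one e, ← h1, ← mul_assoc, h2, one_mul]
      · right
        rw [← h2, mul_assoc, h1, mul_one]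
    · push Not at h
      exact ⟨1, fun e he hPe => absurd (h e he) hPe⟩
  have hsub : (E : Set (Cfsg.POmega F ⇑Q)) ⊆ (({1, t, f, t * f} : Finset (Cfsg.POmega F ⇑Q)) : Set _) := by
    intro e he
    simp only [Finset.coe_insert, Finset.coe_singleton, Set.mem_insert_iff, Set.mem_singleton_iff]
    by_cases hPe : P e
    · rcases ht e he hPe with h | h
      · exact Or.inl h
      · exact Or.inr (Or.inl h)
    · rcases hf e he hPe with h | h
      · exact Or.inr (Or.inr (Or.inl h))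
      · exact Or.inr (Or.inr (Or.inr h))
  calc Nat.card E = (E : Set (Cfsg.POmega F ⇑Q)).ncard := rfl
    _ ≤ (({1, t, f, t * f} : Finset (Cfsg.POmega F ⇑Q)) : Set (Cfsg.POmega F ⇑Q)).ncard :=
        Set.ncard_le_ncard hsub (Finset.finite_toSet _)
    _ = ({1, t, f, t * f} : Finset (Cfsg.POmega F ⇑Q)).card := Set.ncard_coe_finset _
    _ ≤ 4 := Finset.card_le_four

theorem Dat7.char_three (D : Dat7 Q) : CharP F 3 := by
  obtain ⟨c, hc⟩ := CharP.exists F
  have hcp : c.Prime := CharP.char_is_prime F c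
  have h1 : c ∣ 3 := (CharP.cast_eq_zero_iff F c 3).1 (by exact_mod_cast D.dat.three)
  rwa [(Nat.prime_dvd_prime_iff_eq hcp Nat.prime_three).1 h1] at hc

theorem Dat7.finite_omega : Finite (Cfsg.Omega F ⇑Q) := by
  have hfinE : Finite (Module.End F (ι → F)) := Finite.of_injective (fun a : Module.End F (ι → F) => (a : (ι → F) → (ι → F)))
    DFunLike.coe_injective
  exact Finite.of_injective _ (rho_injective (⇑Q))

/-- a 3-group normalized by `x` is trivial -/
theorem Dat7.lin_three (D : Dat7 Q) (hx : x ^ 7 = 1) (hx1 : x ≠ 1) (M : Subgroup (Cfsg.Omega F ⇑Q)) (hM3 : IsPGroup 3 M)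
    (hMx : ∀ k ∈ M, x⁻¹ * k * x ∈ M) : ∀ k ∈ M, k = 1 := by
  haveI : Fact (Nat.Prime 3) := ⟨by norm_num⟩
  haveI : CharP F 3 := D.char_three
  haveI : Finite (Cfsg.Omega F ⇑Q) := Dat7.finite_omega
  have hX := D.isoP hx hx1
  -- the fixed space
  let W : Submodule F (ι → F) :=
    { carrier := {v | ∀ k ∈ M, rho (⇑Q) k v = v}
      zero_mem' := fun k _ => map_zero _
      add_mem' := fun {a b} ha hb k hk => by rw [map_add, ha k hk, hb k hk]
      smul_mem' := fun c v hv k hk => by rw [map_smul, hv k hk] }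
  have hW : ∀ v, v ∈ W ↔ ∀ k ∈ M, rho (⇑Q) k v = v := fun v => Iff.rfl
  have hWx : Inv (rho (⇑Q) x) W := by
    intro v hv k hk
    have h1 : rho (⇑Q) k (rho (⇑Q) x v) = rho (⇑Q) x (rho (⇑Q) (x⁻¹ * k * x) v) := by
      rw [← Module.End.mul_apply, ← Module.End.mul_apply, ← map_mul, ← map_mul]
      congr 2
      group
    rw [h1, hv _ (hMx k hk)]
  have hWp : Inv (rho (⇑Q) x) (perp (sform_polar Q) W) :=
    inv_perp (sform_polar Q) (rho_polar Q x) (by norm_num : 0 < 7) hX.pow hWx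
  -- the radical is trivial
  have hsing : ∀ v ∈ W ⊓ perp (sform_polar Q) W, Q v = 0 := by
    rintro v ⟨h1, h2⟩
    have h3 : polar (⇑Q) v v = 0 := h2 v h1
    rw [polar_self, two_smul, ← two_mul] at h3
    exact (mul_eq_zero.1 h3).resolve_left D.dat.two_ne
  have hradfix : ∀ v ∈ W ⊓ perp (sform_polar Q) W, rho (⇑Q) x v = v → v = 0 := fun v hv h =>
    D.aniso hx hx1 h (hsing v hv)
  have hrad : W ⊓ perp (sform_polar Q) W = ⊥ := by
    have h1 := D.inv_dim hx (hWx.inf hWp) hradfix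
    rcases h1 with h1 | h1
    · exact Submodule.finrank_eq_zero.1 h1
    · exfalso
      have h2 : Inv (rho (⇑Q) x) ((W ⊓ perp (sform_polar Q) W) ⊓ IsoP.Y (sform_polar Q) (rho (⇑Q) x)) :=
        (hWx.inf hWp).inf hX.invY
      rcases D.irr hx hx1 h2 inf_le_right with h3 | h3
      · have h4 := Submodule.finrank_add_finrank_le_of_disjoint (disjoint_iff.2 h3)
        rw [h1, D.finrank_Y hx hx1, D.finrank] at h4
        omega
      · have h4 : IsoP.Y (sform_polar Q) (rho (⇑Q) x) ≤ W ⊓ perp (sform_polar Q) W := by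
          rw [← h3]; exact inf_le_left
        apply hX.Y_ne_bot
        rw [Submodule.eq_bot_iff]
        intro v hv
        refine hX.nonDegY v hv fun w hw => ?_
        exact (h4 hv).2 w (h4 hw).1
  have hnd : NonDeg (polar ⇑Q) W := by
    intro v hv h
    have h1 : v ∈ W ⊓ perp (sform_polar Q) W := ⟨hv, fun w hw => h w hw⟩
    rw [hrad] at h1
    exact (Submodule.mem_bot F).1 h1
  -- the orthogonal complement is trivial
  have hperp : perp (sform_polar Q) W = ⊥ := by
    by_contra h0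
    have hinv' : ∀ g ∈ M, ∀ v ∈ perp (sform_polar Q) W, rho (⇑Q) g v ∈ perp (sform_polar Q) W := by
      intro g hg v hv
      rw [mem_perp] at hv ⊢
      intro w hw
      have h1 : rho (⇑Q) g w = w := (hW w).1 hw g hg
      have h2 := rho_polar Q g v w
      rw [h1, hv w hw] at h2
      exact h2
    obtain ⟨ρ, hρ⟩ : ∃ ρ : Representation F M (ι → F), ∀ (g : M) (v : ι → F), ρ g v = rho (⇑Q) (g : Cfsg.Omega F ⇑Q) v :=
      ⟨(rho (⇑Q)).comp M.subtype, fun _ _ => rfl⟩
    have hinv : ∀ g : M, ∀ v ∈ perp (sform_polar Q) W, ρ g v ∈ perp (sform_polar Q) W := by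
      intro g v hv
      rw [hρ]
      exact hinv' g g.2 v hv
    obtain ⟨v, hv, hv0, hvf⟩ := Cfsg.Agent.Lib.PGroupFixedVector.exists_mem_ne_zero_fixed_rep hM3 ρ
      (perp (sform_polar Q) W) hinv h0
    apply hv0
    have h1 : v ∈ W ⊓ perp (sform_polar Q) W := ⟨(hW v).2 fun k hk => by
      rw [← hρ ⟨k, hk⟩]
      exact hvf ⟨k, hk⟩, hv⟩
    rw [hrad] at h1
    exact (Submodule.mem_bot F).1 h1
  have hall : ∀ v, v ∈ W := by
    intro v
    obtain ⟨z, hz, h1⟩ := exists_proj (sform_polar Q) hnd v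
    rw [hperp, Submodule.mem_bot, sub_eq_zero] at h1
    rwa [h1]
  intro k hk
  apply rho_injective (⇑Q)
  rw [map_one]
  apply LinearMap.ext
  intro v
  exact (hW v).1 (hall v) k hk

/-- an element of order 7 normalizes no non-trivial 3-subgroup -/
theorem Dat7.no_three (D : Dat7 Q) {s : Cfsg.POmega F ⇑Q} (hs : orderOf s = 7)
    (E : Subgroup (Cfsg.POmega F ⇑Q)) (hE : IsPGroup 3 E) (hn : ∀ e ∈ E, s * e * s⁻¹ ∈ E) : E = ⊥ := by
  classical
  haveI : Fact (Nat.Prime 3) := ⟨by norm_num⟩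
  obtain ⟨x, hxs, hx⟩ := exists_lift D.dat.center_sq (by norm_num : Nat.Prime 7) (by norm_num) s
    (by rw [← hs]; exact pow_orderOf_eq_one s)
  have hx1 : x ≠ 1 := by
    rintro rfl
    rw [← hxs, QuotientGroup.mk_one, orderOf_one] at hs
    omega
  have hX := D.isoP hx hx1
  set π : Cfsg.Omega F ⇑Q →* Cfsg.POmega F ⇑Q := QuotientGroup.mk' (Subgroup.center (Cfsg.Omega F ⇑Q)) with hπ
  haveI hfin : Finite (Cfsg.Omega F ⇑Q) := Dat7.finite_omega
  have hexp : ∀ k : Cfsg.Omega F ⇑Q, π k ∈ E → ∃ n : ℕ, (k * k) ^ 3 ^ n = 1 := by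
    intro k hk
    obtain ⟨n, hn⟩ := hE ⟨π k, hk⟩
    refine ⟨n, ?_⟩
    have h1 : π k ^ 3 ^ n = 1 := congrArg Subtype.val hn
    rw [← map_pow] at h1
    have h2 : k ^ 3 ^ n ∈ Subgroup.center (Cfsg.Omega F ⇑Q) := (QuotientGroup.eq_one_iff _).1 h1
    rw [(Commute.refl k).mul_pow]
    exact D.dat.center_sq _ h2
  set K : Subgroup (Cfsg.Omega F ⇑Q) := E.comap π with hK
  -- the order of the centre
  have hZ : Nat.card (Subgroup.center (Cfsg.Omega F ⇑Q)) ≤ 2 := by
    have h1 : ∀ z : Subgroup.center (Cfsg.Omega F ⇑Q), rho (⇑Q) z = 1 ∨ rho (⇑Q) z = -1 := fun z =>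
      (D.dat.center _).1 z.2
    let g : Subgroup.center (Cfsg.Omega F ⇑Q) → Bool := fun z => decide (rho (⇑Q) (z : Cfsg.Omega F ⇑Q) = 1)
    have hg : Function.Injective g := by
      intro a b hab
      have h2 : (rho (⇑Q) (a : Cfsg.Omega F ⇑Q) = 1) ↔ (rho (⇑Q) (b : Cfsg.Omega F ⇑Q) = 1) := by
        simpa only [g, decide_eq_decide] using hab
      apply Subtype.ext
      apply rho_injective (⇑Q)
      rcases h1 a with h3 | h3
      · rw [h3, h2.1 h3]
      · rcases h1 b with h4 | h4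
        · rw [h4, h2.2 h4]
        · rw [h3, h4]
    have h2 := Nat.card_le_card_of_injective g hg
    rwa [Nat.card_eq_fintype_card (α := Bool), Fintype.card_bool] at h2
  have hZ0 : 0 < Nat.card (Subgroup.center (Cfsg.Omega F ⇑Q)) := Nat.card_pos
  have hcK : Nat.card K = Nat.card E * Nat.card (Subgroup.center (Cfsg.Omega F ⇑Q)) := by
    have h1 : K.index = E.index := Subgroup.index_comap_of_surjective E (QuotientGroup.mk'_surjective _)
    have h2 := Subgroup.card_mul_index K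
    have h3 := Subgroup.card_mul_index E
    have h4 := Subgroup.card_eq_card_quotient_mul_card_subgroup (Subgroup.center (Cfsg.Omega F ⇑Q))
    have h5 : Nat.card (Cfsg.POmega F ⇑Q) = Nat.card (Cfsg.Omega F ⇑Q ⧸ Subgroup.center (Cfsg.Omega F ⇑Q)) := rfl
    have h6 : 0 < E.index := Nat.pos_of_ne_zero Subgroup.index_ne_zero_of_finite
    rw [h4, ← h5, ← h3, h1] at h2
    have h7 : Nat.card K * E.index = Nat.card E * Nat.card (Subgroup.center (Cfsg.Omega F ⇑Q)) * E.index := by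
      rw [h2]; ring
    exact Nat.eq_of_mul_eq_mul_right h6 h7
  obtain ⟨m, hm⟩ := (IsPGroup.iff_card (p := 3)).1 hE
  -- a normal Sylow 3-subgroup of `K`
  obtain ⟨R⟩ : Nonempty (Sylow 3 K) := inferInstance
  have hRi : (R : Subgroup K).index = 1 ∨ (R : Subgroup K).index = 2 := by
    have h1 : (R : Subgroup K).index ∣ Nat.card K := Subgroup.index_dvd_card _
    have h2 : ¬ 3 ∣ (R : Subgroup K).index := R.not_dvd_index
    rw [hcK, hm] at h1
    have h3 : ((R : Subgroup K).index).Coprime (3 ^ m) :=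
      Nat.Coprime.pow_right _ ((Nat.Prime.coprime_iff_not_dvd Nat.prime_three).2 h2).symm
    have h4 := Nat.le_of_dvd hZ0 (h3.dvd_of_dvd_mul_left h1)
    have h5 : (R : Subgroup K).index ≠ 0 := Subgroup.index_ne_zero_of_finite
    omega
  have hRn : (R : Subgroup K).Normal := by
    rcases hRi with h | h
    · rw [Subgroup.index_eq_one.1 h]; infer_instance
    · exact Subgroup.normal_of_index_eq_two h
  have hin : ∀ k : K, (∃ n : ℕ, k ^ 3 ^ n = 1) → k ∈ (R : Subgroup K) := by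
    rintro k ⟨n, hn⟩
    have h1 : IsPGroup 3 (Subgroup.zpowers k) := by
      rintro ⟨y, j, rfl⟩
      refine ⟨n, Subtype.ext ?_⟩
      change (k ^ j) ^ 3 ^ n = 1
      rw [← zpow_natCast, ← zpow_mul, mul_comm, zpow_mul, zpow_natCast, hn, one_zpow]
    obtain ⟨R', hR'⟩ := h1.exists_le_sylow
    have h2 : R' = R := by
      have := Sylow.unique_of_normal R hRn
      exact Subsingleton.elim _ _
    rw [h2] at hR'
    exact hR' (Subgroup.mem_zpowers k)
  -- as a subgroup of `Ω`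
  set M : Subgroup (Cfsg.Omega F ⇑Q) := (R : Subgroup K).map K.subtype with hM
  have hM3 : IsPGroup 3 M := R.2.map _
  have hMiff : ∀ k : Cfsg.Omega F ⇑Q, k ∈ M ↔ π k ∈ E ∧ ∃ n : ℕ, k ^ 3 ^ n = 1 := by
    intro k
    constructor
    · intro hk
      obtain ⟨k', hk', rfl⟩ := hk
      refine ⟨k'.2, ?_⟩
      obtain ⟨n, hn⟩ := R.2 ⟨k', hk'⟩
      refine ⟨n, ?_⟩
      have h1 : (k' : K) ^ 3 ^ n = 1 := congrArg Subtype.val hn
      exact congrArg Subtype.val h1
    · rintro ⟨hk, n, hn⟩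
      exact ⟨⟨k, hk⟩, hin _ ⟨n, Subtype.ext hn⟩, rfl⟩
  have hMx : ∀ k ∈ M, x⁻¹ * k * x ∈ M := by
    intro k hk
    rw [hMiff] at hk ⊢
    obtain ⟨hk1, n, hkn⟩ := hk
    constructor
    · -- `s⁻¹ e s ∈ E`
      have h1 : ∀ j : ℕ, s ^ j * π k * (s ^ j)⁻¹ ∈ E := by
        intro j
        induction j with
        | zero => simpa using hk1
        | succ j ih =>
          have := hn _ ih
          rw [pow_succ']
          have h2 : s * s ^ j * π k * (s * s ^ j)⁻¹ = s * (s ^ j * π k * (s ^ j)⁻¹) * s⁻¹ := by group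
          rw [h2]
          exact this
      have h2 := h1 6
      have h3 : s ^ 6 = s⁻¹ := by
        have h4 : s ^ 7 = 1 := by rw [← hs]; exact pow_orderOf_eq_one s
        rw [eq_inv_iff_mul_eq_one, ← pow_succ]
        exact h4
      rw [h3, inv_inv] at h2
      have h4 : π (x⁻¹ * k * x) = s⁻¹ * π k * s := by
        rw [map_mul, map_mul, map_inv, ← hxs]
        rfl
      rw [h4]
      exact h2
    · refine ⟨n, ?_⟩
      have h1 : (x⁻¹ * k * x) ^ 3 ^ n = x⁻¹ * k ^ 3 ^ n * x := by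
        have := conj_pow (i := 3 ^ n) (a := x⁻¹) (b := k)
        rw [inv_inv] at this
        exact this
      rw [h1, hkn, mul_one, inv_mul_cancel]
  have hMone := D.lin_three hx hx1 M hM3 hMx
  rw [Subgroup.eq_bot_iff_forall]
  intro e he
  obtain ⟨k, rfl⟩ := QuotientGroup.mk_surjective e
  obtain ⟨n, hn⟩ := hexp k he
  have h1 : k * k = 1 := hMone _ ((hMiff _).2 ⟨by
    rw [map_mul]
    exact E.mul_mem he he, n, hn⟩)
  obtain ⟨j, hj⟩ := hE ⟨_, he⟩
  have h2 : (k : Cfsg.POmega F ⇑Q) ^ 3 ^ j = 1 := congrArg Subtype.val hj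
  have h3 : (k : Cfsg.POmega F ⇑Q) ^ 2 = 1 := by
    rw [pow_two, ← QuotientGroup.mk_mul, h1]
    rfl
  have h4 : Nat.Coprime (3 ^ j) 2 := Nat.Coprime.pow_left _ (by norm_num)
  have h5 := (pow_gcd_eq_one (a := (k : Cfsg.POmega F ⇑Q))).2 ⟨h2, h3⟩
  rwa [h4.gcd_eq_one, pow_one] at h5

end

end Cfsg.Agent.H149.Der.O8
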